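import Cfsg.Agent.Lib.DegreeTools.Basic
import Cfsg.Agent.Lib.DegreeTools.PDegree
import Cfsg.Agent.Lib.Blocks.CyclotomicSum
import Cfsg.Agent.Lib.Char.Constituent
import Cfsg.Agent.Lib.Char.AbelianDegreeBound
import Cfsg.Agent.Lib.CharDeep.Glauberman.ModP
import Mathlib.RingTheory.RootsOfUnity.Complex

/-!
# Knörr's bound on the number of classes of `G ⋉ V`

Given a virtual character `ψ` of the centralizer `H` of `v ∈ V` in a complement, with
`|ψ(h)|²` at most `[V : C_V(h)]`, vanishing modulo a prime over `p` off the identity and a sign at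
the identity, the class number of `X` is at most `|V|`.
-/

set_option autoImplicit false

namespace CfsgLib.DegreeTools.KGV

open CfsgLib CfsgLib.Char CfsgLib.CharDeep.Glauberman
open scoped Classical ComplexConjugate

/-- Multiples of `ζ - 1` among the algebraic integers. -/
def Small (ζ x : ℂ) : Prop := ∃ z : ℂ, IsIntegral ℤ z ∧ x = (ζ - 1) * z

namespace Small

variable {ζ x y : ℂ}

theorem zero : Small ζ 0 := ⟨0, isIntegral_zero, by ring⟩

theorem add (h : Small ζ x) (h' : Small ζ y) : Small ζ (x + y) := by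
  obtain ⟨a, ha, rfl⟩ := h
  obtain ⟨b, hb, rfl⟩ := h'
  exact ⟨a + b, ha.add hb, by ring⟩

theorem neg (h : Small ζ x) : Small ζ (-x) := by
  obtain ⟨a, ha, rfl⟩ := h
  exact ⟨-a, ha.neg, by ring⟩

theorem mul_right {a : ℂ} (h : Small ζ x) (ha : IsIntegral ℤ a) : Small ζ (x * a) := by
  obtain ⟨b, hb, rfl⟩ := h
  exact ⟨b * a, hb.mul ha, by ring⟩

theorem mul_left {a : ℂ} (ha : IsIntegral ℤ a) (h : Small ζ x) : Small ζ (a * x) := by
  rw [mul_comm]
  exact h.mul_right ha

theorem sum {ι : Type*} {f : ι → ℂ} (s : Finset ι) (h : ∀ i ∈ s, Small ζ (f i)) :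
    Small ζ (∑ i ∈ s, f i) :=
  Finset.sum_induction f (Small ζ) (fun _ _ => add) zero h

theorem root_sub_one {p : ℕ} [NeZero p] (hζ : IsPrimitiveRoot ζ p) {ω : ℂ} (hω : ω ^ p = 1) :
    Small ζ (ω - 1) := by
  obtain ⟨i, -, rfl⟩ := hζ.eq_pow_of_pow_eq_one hω
  exact ⟨∑ k ∈ Finset.range i, ζ ^ k,
    IsIntegral.sum _ fun k _ => (hζ.isIntegral (NeZero.pos p)).pow k, (mul_geom_sum ζ i).symm⟩

/-- A natural number prime to `p` is no multiple of `ζ - 1`. -/
theorem dvd_of_natCast {p : ℕ} [hp : Fact p.Prime] (hζ : IsPrimitiveRoot ζ p) {n : ℕ}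
    (h : Small ζ (n : ℂ)) : p ∣ n := by
  obtain ⟨z, hz, e⟩ := h
  have hi : IsIntegral ℤ ζ := hζ.isIntegral hp.out.pos
  obtain ⟨r, hr, hr'⟩ : ∃ r : ℂ, IsIntegral ℤ r ∧ (ζ - 1) ^ p = p * r := by
    rcases hp.out.eq_two_or_odd' with h2 | ho
    · subst h2
      exact ⟨2, CharDeep.Glauberman.isIntegral_natCast 2, by rw [hζ.eq_neg_one_of_two_right]; norm_num⟩
    · obtain ⟨c, hc⟩ := exists_add_pow_prime_eq hp.out
        (⟨ζ, hi⟩ : integralClosure ℤ ℂ) (-1)
      refine ⟨ζ * (-1) * (c : ℂ), (hi.mul isIntegral_one.neg).mul c.2, ?_⟩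
      have h' := congrArg Subtype.val hc
      push_cast at h'
      rw [hζ.pow_eq_one, Odd.neg_one_pow ho] at h'
      rw [sub_eq_add_neg, h']
      ring
  have h2 : Cong p ((n ^ p : ℕ) : ℂ) 0 :=
    ⟨r * z ^ p, hr.mul (hz.pow p), by push_cast; rw [e, mul_pow, hr']; ring⟩
  exact hp.out.dvd_of_dvd_pow ((Cong.nat_zero_iff hp.out.ne_zero _).1 h2)

end Small

variable {H : Type*} [Group H] [Fintype H]

/-- Combinations of irreducible characters with coefficients in `R`. -/
def InSpan (R : Subalgebra ℤ ℂ) (f : H → ℂ) : Prop :=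
  ∃ c : Cfsg.IrrCharacter H → ℂ, (∀ φ, c φ ∈ R) ∧
    ∀ h, f h = ∑ φ : Cfsg.IrrCharacter H, c φ * (φ : H → ℂ) h

namespace InSpan

variable {R : Subalgebra ℤ ℂ} {f g : H → ℂ}

theorem zero : InSpan R (fun _ : H => (0 : ℂ)) := ⟨fun _ => 0, fun _ => R.zero_mem, fun h => by simp⟩

theorem add (hf : InSpan R f) (hg : InSpan R g) : InSpan R (fun h => f h + g h) := by
  obtain ⟨c, hc, e⟩ := hf
  obtain ⟨d, hd, e'⟩ := hg
  exact ⟨c + d, fun φ => R.add_mem (hc φ) (hd φ), fun h => by
    simp only [e, e', Pi.add_apply, add_mul, Finset.sum_add_distrib]⟩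

theorem smul {a : ℂ} (ha : a ∈ R) (hf : InSpan R f) : InSpan R (fun h => a * f h) := by
  obtain ⟨c, hc, e⟩ := hf
  exact ⟨fun φ => a * c φ, fun φ => R.mul_mem ha (hc φ), fun h => by
    simp only [e, Finset.mul_sum, mul_assoc]⟩

theorem sum {ι : Type*} (s : Finset ι) {F : ι → H → ℂ} (h : ∀ i ∈ s, InSpan R (F i)) :
    InSpan R (fun x => ∑ i ∈ s, F i x) := by
  induction s using Finset.induction with
  | empty => simpa using zero
  | @insert a t ha ih =>
    simp only [Finset.sum_insert ha]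
    exact (h a (Finset.mem_insert_self a t)).add (ih fun i hi => h i (Finset.mem_insert_of_mem hi))

theorem of_isCharacter (hf : Cfsg.IsCharacter H f) : InSpan R f := by
  obtain ⟨m, -, e⟩ := IsCharacter.exists_multiplicity hf
  exact ⟨fun φ => (m φ : ℂ), fun φ => natCast_mem R (m φ), e⟩

theorem of_hom (φ : H →* ℂˣ) : InSpan R (fun h => (φ h : ℂ)) := of_isCharacter (isCharacter_hom φ)

theorem mul (hf : InSpan R f) (hg : InSpan R g) : InSpan R (fun h => f h * g h) := by
  obtain ⟨c, hc, e⟩ := hf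
  obtain ⟨d, hd, e'⟩ := hg
  have := sum (R := R) (Finset.univ : Finset (Cfsg.IrrCharacter H)) (fun φ _ =>
    sum (Finset.univ : Finset (Cfsg.IrrCharacter H)) (fun χ _ =>
      smul (R.mul_mem (hc φ) (hd χ))
        (of_isCharacter (IsCharacter.mul (isCharacter_irr φ) (isCharacter_irr χ)))))
  convert this using 2 with h
  rw [e, e', Finset.sum_mul_sum]
  refine Finset.sum_congr rfl fun φ _ => Finset.sum_congr rfl fun χ _ => ?_
  rw [Pi.mul_apply]
  ring

theorem isIntegral (hR : ∀ x ∈ R, IsIntegral ℤ x) (hf : InSpan R f) (h : H) :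
    IsIntegral ℤ (f h) := by
  obtain ⟨c, hc, e⟩ := hf
  rw [e]
  exact IsIntegral.sum _ fun φ _ => (hR _ (hc φ)).mul (IsCharacter.isIntegral (isCharacter_irr φ) h)

end InSpan

theorem classInner_expand {f : H → ℂ} {c : Cfsg.IrrCharacter H → ℂ}
    (e : ∀ h, f h = ∑ φ : Cfsg.IrrCharacter H, c φ * (φ : H → ℂ) h) (φ : Cfsg.IrrCharacter H) :
    Cfsg.classInner f (φ : H → ℂ) = c φ := by
  rw [show f = ∑ ψ : Cfsg.IrrCharacter H, c ψ • (ψ : H → ℂ) from funext fun h => by
    rw [e, Finset.sum_apply]; rfl, classInner_sum_left, Finset.sum_eq_single φ]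
  · rw [classInner_smul_left, classInner_irr_self φ.2, mul_one]
  · intro ψ _ hne
    rw [classInner_smul_left, classInner_irr_ne ψ.2 φ.2 (fun h => hne (Subtype.ext h)), mul_zero]
  · exact fun h => absurd (Finset.mem_univ _) h

theorem parseval {f : H → ℂ} {c : Cfsg.IrrCharacter H → ℂ}
    (e : ∀ h, f h = ∑ φ : Cfsg.IrrCharacter H, c φ * (φ : H → ℂ) h) :
    ∑ φ, c φ * conj (c φ) = (Nat.card H : ℂ)⁻¹ * ∑ h, f h * conj (f h) := by
  refine Eq.trans ?_ (show Cfsg.classInner f f = _ from rfl)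
  conv_rhs => arg 2; rw [show f = ∑ ψ : Cfsg.IrrCharacter H, c ψ • (ψ : H → ℂ) from funext fun h => by
    rw [e, Finset.sum_apply]; rfl]
  rw [classInner_sum_right]
  refine Finset.sum_congr rfl fun φ _ => ?_
  rw [classInner_smul_right, classInner_expand e, mul_comm]

/-- A function which is `Small` off the identity, but not at it, has all coefficients nonzero. -/
theorem coeff_ne_zero {p : ℕ} [hp : Fact p.Prime] {ζ : ℂ} (hζ : IsPrimitiveRoot ζ p)
    (hH : ¬ p ∣ Nat.card H) {f : H → ℂ} (hoff : ∀ h, h ≠ 1 → Small ζ (f h)) {d : ℕ} (hd : ¬ p ∣ d)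
    (h1 : Small ζ (f 1 - d) ∨ Small ζ (f 1 + d)) {c : Cfsg.IrrCharacter H → ℂ}
    (e : ∀ h, f h = ∑ φ : Cfsg.IrrCharacter H, c φ * (φ : H → ℂ) h) (φ : Cfsg.IrrCharacter H) :
    c φ ≠ 0 := by
  intro h0
  have hci := classInner_expand e φ
  rw [h0, Cfsg.classInner, mul_eq_zero] at hci
  have hsum := hci.resolve_left (inv_ne_zero card_ne_zero)
  obtain ⟨k, hk, hkdvd⟩ := IsIrrCharacter.apply_one_dvd_card φ.2
  rw [← Finset.add_sum_erase _ _ (Finset.mem_univ 1), hk, Complex.conj_natCast] at hsum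
  have hs : Small ζ (f 1 * k) := by
    have hs' := (Small.sum (ζ := ζ) ((Finset.univ : Finset H).erase 1) fun h hh =>
      (hoff h (Finset.mem_erase.1 hh).1).mul_right
        (IsCharacter.isIntegral (IsCharacter.conj' (isCharacter_irr φ)) h)).neg
    rw [eq_neg_of_add_eq_zero_left hsum]
    exact hs'
  have hki : IsIntegral ℤ (k : ℂ) := CharDeep.Glauberman.isIntegral_natCast k
  have hdk : Small ζ ((d * k : ℕ) : ℂ) := by
    push_cast
    rcases h1 with h1 | h1
    · have := hs.add (h1.mul_right hki).neg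
      convert this using 1
      ring
    · have := (h1.mul_right hki).add hs.neg
      convert this using 1
      ring
  rcases hp.out.dvd_mul.1 (Small.dvd_of_natCast hζ hdk) with h | h
  · exact hd h
  · exact hH (h.trans hkdvd)

section Bound

variable {X : Type*} [Group X] [Fintype X]

/-- Knörr's bound. -/
theorem card_classes_le {p : ℕ} [hp : Fact p.Prime] (V : Subgroup X) [V.Normal]
    (hab : ∀ a b : V, a * b = b * a) (hidx : ¬ p ∣ V.index) (G : Subgroup X)
    (hGV : Subgroup.IsComplement' V G) (v : X) (hv : v ∈ V) (hvp : v ^ p = 1) (H : Subgroup X)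
    (hH : ∀ g, g ∈ H ↔ g ∈ G ∧ g * v = v * g) {N : ℕ} (hN : 0 < N) (hpN : p ∣ N)
    {ξ : ℂ} (hξ : IsPrimitiveRoot ξ N) (ψ : H → ℂ)
    (hψ : InSpan (Algebra.adjoin ℤ ({ξ} : Set ℂ)) ψ) (hψ1 : ψ 1 = 1 ∨ ψ 1 = -1)
    (hψs : ∀ h, h ≠ 1 → Small (ξ ^ (N / p)) (ψ h)) (n : H → ℕ)
    (hn : ∀ h, ψ h * conj (ψ h) = n h)
    (hnle : ∀ h : H, n h * Nat.card {x : X // x ∈ V ∧ x * (h : X) = (h : X) * x} ≤ Nat.card V) :
    Nat.card (ConjClasses X) ≤ Nat.card V := by
  set R := Algebra.adjoin ℤ ({ξ} : Set ℂ)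
  set ζ := ξ ^ (N / p)
  have hζ : IsPrimitiveRoot ζ p := hξ.pow hN (Nat.div_mul_cancel hpN).symm
  have : NeZero p := ⟨hp.out.ne_zero⟩
  have hR : ∀ x ∈ R, IsIntegral ℤ x := fun x hx =>
    adjoin_le_integralClosure (hξ.isIntegral hN) hx
  have hpH : ¬ p ∣ Nat.card H := fun h => hidx (by
    rw [hGV.symm.index_eq_card]
    exact h.trans (Subgroup.card_dvd_of_le fun g hg => ((hH g).1 hg).1))
  let f : Subgroup.zpowers v × H →* X := MonoidHom.noncommCoprod (Subgroup.zpowers v).subtype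
    H.subtype fun z h => by
      obtain ⟨i, hi⟩ := Subgroup.mem_zpowers_iff.1 z.2
      show (z : X) * h = h * z
      rw [← hi]
      exact (show Commute v (h : X) from ((hH h).1 h.2).2.symm).zpow_left i
  have hf : ∀ z h, f (z, h) = (z : X) * h := fun _ _ => rfl
  set v' : Subgroup.zpowers v := ⟨v, Subgroup.mem_zpowers v⟩
  -- decomposition along `⟨v⟩ × H`
  have hdec : ∀ χ : Cfsg.IrrCharacter X, InSpan R (fun h : H => (χ : X → ℂ) (v * h)) ∧
      Small ζ ((χ : X → ℂ) v - (Cfsg.charDegree (χ : X → ℂ) : ℂ)) := by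
    intro χ
    obtain ⟨m, -, em⟩ := IsCharacter.exists_multiplicity
      (IsCharacter.comp (isCharacter_irr χ) f)
    have hω : ∀ lam : Cfsg.IrrCharacter (Subgroup.zpowers v × H), ∃ ω : ℂ, ω ^ p = 1 ∧
        ∀ x, lam.1 ((v', (1 : H)) * x) = ω * lam.1 x := by
      intro lam
      obtain ⟨ω, -, hω⟩ := DegreeBound.apply_central_mul lam.2 (z := (v', (1 : H))) (Subgroup.mem_center_iff.2
        fun y => Prod.ext (Subtype.ext (by
          obtain ⟨i, hi⟩ := Subgroup.mem_zpowers_iff.1 y.1.2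
          show (y.1 : X) * v = v * y.1
          rw [← hi]
          exact ((Commute.refl v).zpow_left i))) (by simp))
      refine ⟨ω, ?_, hω⟩
      have hpow : ∀ i : ℕ, lam.1 ((v', (1 : H)) ^ i) = ω ^ i * lam.1 1 := by
        intro i
        induction i with
        | zero => simp
        | succ i ih => rw [pow_succ', hω, ih, pow_succ', mul_assoc]
      have h := hpow p
      rw [show (v', (1 : H)) ^ p = 1 from Prod.ext (Subtype.ext (by simpa [v'] using hvp)) (one_pow p)]
        at h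
      exact (mul_eq_right₀ (IsIrrCharacter.apply_one_ne_zero lam.2)).1 h.symm
    choose ω hωp hω using hω
    have hωR : ∀ lam, ω lam ∈ R := fun lam => by
      have : NeZero N := ⟨hN.ne'⟩
      obtain ⟨i, -, hi⟩ := hξ.eq_pow_of_pow_eq_one (ξ := ω lam) (by
        rw [← Nat.div_mul_cancel hpN, mul_comm, pow_mul, hωp, one_pow])
      rw [← hi]
      exact R.pow_mem (Algebra.self_mem_adjoin_singleton ℤ ξ) i
    refine ⟨?_, ?_⟩
    · have := InSpan.sum (R := R) (Finset.univ : Finset (Cfsg.IrrCharacter (Subgroup.zpowers v × H)))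
        (fun lam _ => InSpan.smul (R.mul_mem (natCast_mem R (m lam)) (hωR lam))
          (InSpan.of_isCharacter (IsCharacter.comp (isCharacter_irr lam)
            (MonoidHom.inr (Subgroup.zpowers v) H))))
      convert this using 2 with h
      rw [show v * (h : X) = f (v', h) from rfl]
      refine (em (v', h)).trans (Finset.sum_congr rfl fun lam _ => ?_)
      rw [mul_assoc]
      congr 1
      show _ = ω lam * lam.1 ((1 : Subgroup.zpowers v), h)
      rw [← hω lam, Prod.mk_mul_mk, mul_one, one_mul]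
    · have e1 : (χ : X → ℂ) v = ∑ lam : Cfsg.IrrCharacter (Subgroup.zpowers v × H), (m lam : ℂ) * (ω lam * lam.1 1) := by
        have h := em (v', 1)
        rw [show ((χ : X → ℂ) ∘ f) (v', 1) = (χ : X → ℂ) v by simp [hf, v']] at h
        rw [h]
        exact Finset.sum_congr rfl fun lam _ => by rw [← hω lam, mul_one]
      have e2 : (Cfsg.charDegree (χ : X → ℂ) : ℂ) = ∑ lam : Cfsg.IrrCharacter (Subgroup.zpowers v × H), (m lam : ℂ) * lam.1 1 := by
        rw [deg_cast, ← em 1, Function.comp_apply, map_one]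
      rw [e1, e2, ← Finset.sum_sub_distrib]
      refine Small.sum _ fun lam _ => ?_
      rw [show (m lam : ℂ) * (ω lam * lam.1 1) - (m lam : ℂ) * lam.1 1
        = (ω lam - 1) * ((m lam : ℂ) * lam.1 1) by ring]
      exact (Small.root_sub_one hζ (hωp lam)).mul_right
        ((CharDeep.Glauberman.isIntegral_natCast _).mul (IsCharacter.isIntegral (isCharacter_irr lam) 1))
  -- the coefficients
  choose c hcR hce using fun χ : Cfsg.IrrCharacter X => (hdec χ).1.mul hψ
  have hne : ∀ χ φ, c χ φ ≠ 0 := fun χ φ => by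
    refine coeff_ne_zero hζ hpH (fun h hh => Small.mul_left
      (IsCharacter.isIntegral (isCharacter_irr χ) _) (hψs h hh)) (d := Cfsg.charDegree (χ : X → ℂ))
      (fun hd => hidx (hd.trans (deg_dvd_index V hab χ))) ?_ (hce χ) φ
    simp only [OneMemClass.coe_one, mul_one]
    rcases hψ1 with h1 | h1 <;> rw [h1]
    · left; rw [mul_one]; exact (hdec χ).2
    · right
      rw [mul_neg_one, neg_add_eq_sub, ← neg_sub]
      exact (hdec χ).2.neg
  let T : ℕ := ∑ h : H, n h * Nat.card (Subgroup.centralizer ({v * (h : X)} : Set X))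
  have htot : ∑ x : Cfsg.IrrCharacter X × Cfsg.IrrCharacter H, c x.1 x.2 * conj (c x.1 x.2)
      = (((T : ℚ) / Nat.card H : ℚ) : ℂ) := by
    rw [Fintype.sum_prod_type]
    push_cast [T]
    simp only [parseval (hce _), ← Finset.mul_sum]
    rw [Finset.sum_comm, inv_mul_eq_div]
    congr 1
    refine Finset.sum_congr rfl fun h _ => ?_
    rw [← hn, mul_comm (ψ h * conj (ψ h))]
    have horth := sum_irr_mul_conj (v * (h : X)) (v * (h : X))
    rw [if_pos (IsConj.refl _)] at horth
    rw [← horth, Finset.sum_mul]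
    exact Finset.sum_congr rfl fun χ _ => by rw [map_mul]; ring
  have key := CfsgLib.Blocks.card_le_of_sum_normSq Finset.univ hN hξ.pow_eq_one
    (fun x : Cfsg.IrrCharacter X × Cfsg.IrrCharacter H => c x.1 x.2) (fun x _ => hcR x.1 x.2)
    (fun x _ => hne x.1 x.2) htot
  have hcent : ∀ h : H, Nat.card (Subgroup.centralizer ({v * (h : X)} : Set X)) ≤
      Nat.card {x : X // x ∈ V ∧ x * (h : X) = (h : X) * x} *
        Nat.card (Subgroup.centralizer ({h} : Set H)) := by
    intro h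
    obtain ⟨hhG, hhv⟩ := (hH h).1 h.2
    -- commuting with `v h` forces commuting with both parts
    have hsep : ∀ y : X, y * (v * h) = v * h * y → y * v = v * y ∧ y * (h : X) = h * y := by
      intro y hy
      have hc : Commute v (h : X) := hhv.symm
      obtain ⟨a, ha1, ha2⟩ := Nat.chineseRemainder
        (show Nat.Coprime p (Nat.card H) from (hp.out.coprime_iff_not_dvd).2 hpH) 0 1
      have e1 : (v * (h : X)) ^ a = (h : X) := by
        rw [hc.mul_pow]
        obtain ⟨t, ht⟩ := Nat.modEq_zero_iff_dvd.1 ha1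
        rw [show v ^ a = 1 by rw [ht, pow_mul, hvp, one_pow], one_mul]
        conv_rhs => rw [← pow_one (h : X)]
        rw [pow_eq_pow_iff_modEq]
        exact ha2.of_dvd (by rw [Subgroup.orderOf_coe]; exact orderOf_dvd_natCard h)
      have hyh : Commute y (h : X) := e1 ▸ (Commute.pow_right (hy : Commute y (v * h)) a)
      refine ⟨mul_right_cancel (b := (h : X)) ?_, hyh.eq⟩
      rw [mul_assoc, hy, mul_assoc, ← hyh.eq, ← mul_assoc]
    have hdecX : ∀ y : X, ∃ (a : V) (g : G), y = (a : X) * g := fun y => by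
      obtain ⟨⟨a, g⟩, rfl⟩ := hGV.2 y
      exact ⟨a, g, rfl⟩
    have huniq : ∀ (a a' : V) (g g' : G), (a : X) * g = a' * g' → a = a' ∧ g = g' :=
      fun a a' g g' e => by
        have := hGV.1 (show (fun x : V × G => (x.1 : X) * x.2) (a, g) = (fun x : V × G => (x.1 : X) * x.2) (a', g') from e)
        exact ⟨congrArg Prod.fst this, congrArg Prod.snd this⟩
    have hmem : ∀ y : Subgroup.centralizer ({v * (h : X)} : Set X), ∃ (a : V) (g : H),
        (y : X) = (a : X) * g ∧ ((a : X) * h = (h : X) * a) ∧ g * h = h * g := by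
      intro y
      obtain ⟨hyv, hyh⟩ := hsep y (Subgroup.mem_centralizer_singleton_iff.1 y.2)
      obtain ⟨a, g, hag⟩ := hdecX y
      rw [hag] at hyv hyh
      have hav : (a : X) * v = v * a := congrArg Subtype.val (hab a ⟨v, hv⟩)
      have hgv : (g : X) * v = v * g := by
        refine mul_left_cancel (a := (a : X)) ?_
        rw [← mul_assoc, hyv, ← mul_assoc, ← mul_assoc, hav]
      have e : (a : X) * ((g : X) * h) = ((h : X) * a * (h : X)⁻¹) * ((h : X) * g) := by
        rw [← mul_assoc, hyh]; group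
      obtain ⟨e1, e2⟩ := huniq a ⟨_, ‹V.Normal›.conj_mem a a.2 h⟩ (g * ⟨h, hhG⟩) (⟨h, hhG⟩ * g) e
      refine ⟨a, ⟨g, (hH g).2 ⟨g.2, hgv⟩⟩, hag, ?_, Subtype.ext (congrArg (fun z : G => (z : X)) e2)⟩
      have e1' := congrArg Subtype.val e1
      simp only at e1'
      nth_rw 1 [e1']
      group
    choose a g hag hah hgh using hmem
    rw [← Nat.card_prod]
    refine Nat.card_le_card_of_injective (fun y => (⟨a y, (a y).2, hah y⟩,
      ⟨g y, Subgroup.mem_centralizer_singleton_iff.2 (hgh y)⟩)) fun y y' e => Subtype.ext ?_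
    simp only [Prod.mk.injEq, Subtype.mk.injEq] at e
    rw [hag y, hag y', e.1, e.2]
  -- the class equation of `H`
  have hclass : ∑ h : H, Nat.card (Subgroup.centralizer ({h} : Set H))
      = Nat.card (Cfsg.IrrCharacter H) * Nat.card H := by
    apply Nat.cast_injective (R := ℂ)
    push_cast
    have h0 : ∀ h : H, (Nat.card (Subgroup.centralizer ({h} : Set H)) : ℂ)
        = ∑ φ : Cfsg.IrrCharacter H, (φ : H → ℂ) h * conj ((φ : H → ℂ) h) := fun h => by
      have := sum_irr_mul_conj h h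
      rw [if_pos (IsConj.refl _)] at this
      exact this.symm
    rw [Finset.sum_congr rfl fun h _ => h0 h, Finset.sum_comm]
    have h1 : ∀ φ : Cfsg.IrrCharacter H, ∑ h : H, (φ : H → ℂ) h * conj ((φ : H → ℂ) h)
        = (Nat.card H : ℂ) := fun φ => by
      have h := classInner_irr_self φ.2
      rwa [Cfsg.classInner, inv_mul_eq_iff_eq_mul₀ card_ne_zero, mul_one] at h
    rw [Finset.sum_congr rfl fun φ _ => h1 φ, Finset.sum_const, nsmul_eq_mul, Finset.card_univ,
      Nat.card_eq_fintype_card (α := Cfsg.IrrCharacter H)]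
  have hT : T ≤ Nat.card V * (Nat.card (Cfsg.IrrCharacter H) * Nat.card H) := by
    rw [← hclass, Finset.mul_sum]
    refine Finset.sum_le_sum fun h _ => ?_
    refine (Nat.mul_le_mul_left _ (hcent h)).trans ?_
    rw [← mul_assoc]
    exact Nat.mul_le_mul_right _ (hnle h)
  have hkey : (Nat.card (Cfsg.IrrCharacter X) * Nat.card (Cfsg.IrrCharacter H)) * Nat.card H ≤ T := by
    rw [Finset.card_univ, Fintype.card_prod, le_div_iff₀ (Nat.cast_pos.2 Nat.card_pos),
      ← Nat.card_eq_fintype_card, ← Nat.card_eq_fintype_card] at key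
    exact_mod_cast key
  rw [← card_irrCharacter (G := X)]
  have hIpos : 0 < Nat.card (Cfsg.IrrCharacter H) := by
    have : Nonempty (Cfsg.IrrCharacter H) := ⟨oneChar H⟩
    exact Nat.card_pos
  have hchain := hkey.trans hT
  rw [← mul_assoc] at hchain
  exact Nat.le_of_mul_le_mul_right (Nat.le_of_mul_le_mul_right hchain Nat.card_pos) hIpos

end Bound

end CfsgLib.DegreeTools.KGV
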