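import Cfsg.Agent.Lib.DegreeTools.KGV.Bound
import Mathlib.NumberTheory.GaussSum
import Mathlib.Analysis.Fourier.FiniteAbelian.PontryaginDuality
import Mathlib.Analysis.SpecialFunctions.Complex.Circle
import Mathlib.Algebra.Ring.Subring.Basic
import Mathlib.RingTheory.IntegralDomain
import Mathlib.GroupTheory.FiniteAbelian.Duality

/-!
# Products of Gauss sums as virtual characters of coprime abelian linear groups
-/

set_option autoImplicit false

namespace CfsgLib.DegreeTools.KGV

open CfsgLib CfsgLib.Char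
open scoped Classical ComplexConjugate

variable {H : Type*} [CommGroup H] [Fintype H] {p N : ℕ} [hp : Fact p.Prime] {ξ : ℂ}

/-- The image of `f - 1`. -/
def rangeSub {A : Type*} [AddCommGroup A] (f : AddMonoid.End A) : AddSubgroup A :=
  AddMonoidHom.range ((f - 1 : AddMonoid.End A) : A →+ A)

/-- What the bound needs from a virtual character, relative to an action on `A`. -/
def Good (p N : ℕ) (ξ : ℂ) {A : Type*} [AddCommGroup A] (ρ : H →* AddMonoid.End A)
    (g : H → ℂ) : Prop :=
  InSpan (Algebra.adjoin ℤ ({ξ} : Set ℂ)) g ∧ (g 1 = 1 ∨ g 1 = -1) ∧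
    (∀ h, ρ h ≠ 1 → Small (ξ ^ (N / p)) (g h)) ∧
    ∀ h, ∃ n : ℕ, g h * conj (g h) = n ∧
      n ≤ Nat.card (rangeSub (ρ h))

/-- An irreducible action: a Gauss sum. -/
theorem exists_good_irreducible (hN : 0 < N) (hpN : p ∣ N) (hξ : IsPrimitiveRoot ξ N)
    {A : Type*} [AddCommGroup A] [Finite A] [Nontrivial A] (ρ : H →* AddMonoid.End A)
    (hexp : ∀ a : A, p • a = 0)
    (hirr : ∀ W : AddSubgroup A, (∀ h, ∀ w ∈ W, ρ h w ∈ W) → W = ⊥ ∨ W = ⊤) :
    ∃ g : H → ℂ, Good p N ξ ρ g := by
  let R : Subring (AddMonoid.End A) := Subring.closure (Set.range ρ)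
  have hcomm : ∀ (r : AddMonoid.End A), r ∈ R → ∀ h, r * ρ h = ρ h * r := by
    intro r hr h
    induction hr using Subring.closure_induction with
    | mem x hx => obtain ⟨k, rfl⟩ := hx; rw [← map_mul, ← map_mul, mul_comm]
    | zero => simp
    | one => simp
    | add x y _ _ hx hy => rw [add_mul, mul_add, hx, hy]
    | neg x _ hx => rw [neg_mul, mul_neg, hx]
    | mul x y _ _ hx hy => rw [mul_assoc, hy, ← mul_assoc, hx, mul_assoc]
  -- nonzero elements of `R` are injective
  have hinj : ∀ (r : AddMonoid.End A), r ∈ R → r ≠ 0 → ∀ a, r a = 0 → a = 0 := by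
    intro r hr hr0 a ha
    rcases hirr (AddMonoidHom.ker (r : A →+ A)) (fun h w hw => by
      show r (ρ h w) = 0
      have := congrArg (fun f : AddMonoid.End A => f w) (hcomm r hr h)
      simp only [AddMonoid.End.coe_mul, Function.comp_apply] at this
      rw [this, show r w = 0 from hw, map_zero]) with hb | ht
    · have : a ∈ AddMonoidHom.ker (r : A →+ A) := ha
      rw [hb] at this
      exact this
    · refine absurd (AddMonoidHom.ext fun w => ?_) hr0
      have hw : w ∈ AddMonoidHom.ker (r : A →+ A) := ht ▸ AddSubgroup.mem_top w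
      exact hw
  letI : CommRing R := Subring.closureCommRingOfComm (by
    rintro _ ⟨a, rfl⟩ _ ⟨b, rfl⟩
    rw [← map_mul, ← map_mul, mul_comm])
  haveI : Nontrivial R := by
    refine ⟨⟨0, 1, fun h => ?_⟩⟩
    obtain ⟨a, ha⟩ := exists_ne (0 : A)
    exact ha (congrArg (fun f : R => (f : AddMonoid.End A) a) h).symm
  haveI : NoZeroDivisors R := ⟨fun {r s} h => by
    by_contra hc
    push Not at hc
    obtain ⟨a, ha⟩ := exists_ne (0 : A)
    have h' : (r : AddMonoid.End A) ((s : AddMonoid.End A) a) = 0 :=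
      congrArg (fun f : R => (f : AddMonoid.End A) a) h
    exact ha (hinj s s.2 (fun h0 => hc.2 (Subtype.ext h0)) a
      (hinj r r.2 (fun h0 => hc.1 (Subtype.ext h0)) _ h'))⟩
  haveI : IsDomain R := NoZeroDivisors.to_isDomain R
  haveI : Finite R := Finite.of_injective
    (fun r : R => (fun a => (r : AddMonoid.End A) a)) fun r s h =>
      Subtype.ext (AddMonoidHom.ext (congrFun h))
  haveI : Fintype R := Fintype.ofFinite R
  letI : Field R := (Finite.isField_of_domain R).toField
  -- the map to units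
  let u : H →* Rˣ := MonoidHom.toHomUnits
    { toFun := fun h => (⟨ρ h, Subring.subset_closure ⟨h, rfl⟩⟩ : R)
      map_one' := Subtype.ext (map_one ρ)
      map_mul' := fun a b => Subtype.ext (map_mul ρ a b) }
  have hu : ∀ h, u h = 1 ↔ ρ h = 1 := fun h => by
    rw [Units.ext_iff, MonoidHom.coe_toHomUnits, Subtype.ext_iff]
    rfl
  have : NeZero (Monoid.exponent Rˣ : ℂ) :=
    ⟨by exact_mod_cast Monoid.exponent_ne_zero_of_finite⟩
  obtain ⟨D⟩ := CommGroup.monoidHom_mulEquiv_of_hasEnoughRootsOfUnity Rˣ ℂ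
  obtain ⟨e, he⟩ := (AddChar.exists_apply_ne_zero (α := R) (a := 1)).2 one_ne_zero
  have he1 : e ≠ 1 := fun h => he (by rw [h]; rfl)
  have hep : ∀ x : R, e x ^ p = 1 := fun x => by
    rw [← AddChar.map_nsmul_eq_pow, show p • x = 0 from Subtype.ext (AddMonoidHom.ext fun a => by
      show (p • (x : AddMonoid.End A)) a = 0
      exact hexp _), AddChar.map_zero_eq_one]
  let G : H → ℂ := fun h => gaussSum (MulChar.ofUnitHom (D.symm (u h))) e
  have hGu : ∀ h, G h = ∑ x : Rˣ, ((D.symm (u h)) x : ℂ) * e x := by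
    intro h
    simp only [G, gaussSum]
    rw [← Finset.sum_subset (Finset.subset_univ ((Finset.univ : Finset Rˣ).map
      ⟨Units.val, Units.val_injective⟩)) (fun x _ hx => by
        have hnu : ¬ IsUnit x := fun hu => hx (Finset.mem_map.2 ⟨hu.unit, Finset.mem_univ _, rfl⟩)
        rw [MulChar.map_nonunit _ hnu, zero_mul]), Finset.sum_map]
    exact Finset.sum_congr rfl fun x _ => by
      rw [Function.Embedding.coeFn_mk, MulChar.ofUnitHom_coe]
  have hζ : IsPrimitiveRoot (ξ ^ (N / p)) p := hξ.pow hN (Nat.div_mul_cancel hpN).symm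
  have hG1 : ∀ h, ρ h = 1 → G h = -1 := fun h hh => by
    rw [show G h = gaussSum (MulChar.ofUnitHom (D.symm (u h))) e from rfl, (hu h).2 hh, map_one,
      show MulChar.ofUnitHom (1 : Rˣ →* ℂˣ) = 1 from MulChar.ext fun x => by simp]
    exact gaussSum_one_left he1
  have hne : ∀ h, ρ h ≠ 1 → MulChar.ofUnitHom (D.symm (u h)) ≠ 1 := fun h hh he' => by
    apply hh
    rw [← hu, ← D.symm.map_eq_one_iff]
    refine MonoidHom.ext fun x => Units.ext ?_
    have := congrArg (fun χ : MulChar R ℂ => χ (x : R)) he'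
    simpa [MulChar.ofUnitHom_coe] using this
  refine ⟨G, ?_, Or.inr (hG1 1 (map_one ρ)), fun h hh => ?_, fun h => ?_⟩
  · have hspan := InSpan.sum (R := Algebra.adjoin ℤ ({ξ} : Set ℂ)) (Finset.univ : Finset Rˣ)
      fun x _ => InSpan.smul (a := e x) (by
        have : NeZero N := ⟨hN.ne'⟩
        obtain ⟨i, -, hi⟩ := hξ.eq_pow_of_pow_eq_one (ξ := e (x : R)) (by
          rw [← Nat.div_mul_cancel hpN, mul_comm, pow_mul, hep, one_pow])
        rw [← hi]
        exact Subalgebra.pow_mem _ (Algebra.self_mem_adjoin_singleton ℤ ξ) i)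
        (InSpan.of_hom (H := H)
          ((MonoidHom.eval x).comp (D.symm.toMonoidHom.comp u)))
    convert hspan using 2 with h
    rw [hGu]
    exact Finset.sum_congr rfl fun x _ => mul_comm _ _
  · have h0 : ∑ x : Rˣ, ((D.symm (u h)) x : ℂ) = 0 := by
      have := sum_hom_units_eq_zero ((Units.coeHom ℂ).comp (D.symm (u h))) fun he' => by
        refine hne h hh (MulChar.ext fun x => ?_)
        have := DFunLike.congr_fun he' x
        simpa [MulChar.ofUnitHom_coe] using this
      simpa using this
    have hG' : G h = ∑ x : Rˣ, (e x - 1) * ((D.symm (u h)) x : ℂ) := by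
      simp only [sub_mul, one_mul, Finset.sum_sub_distrib, h0, sub_zero]
      rw [hGu]
      exact Finset.sum_congr rfl fun x _ => mul_comm _ _
    rw [hG']
    refine Small.sum _ fun x _ => (Small.root_sub_one hζ (hep _)).mul_right ?_
    exact IsIntegral.of_pow (Fintype.card_pos (α := Rˣ)) (by
      rw [← Units.val_pow_eq_pow_val, ← map_pow, pow_card_eq_one, map_one, Units.val_one]
      exact isIntegral_one)
  · by_cases hh : ρ h = 1
    · refine ⟨1, by rw [hG1 h hh]; norm_num, Nat.one_le_iff_ne_zero.2 Nat.card_pos.ne'⟩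
    refine ⟨Fintype.card R, ?_, ?_⟩
    · rw [← gaussSum_mul_gaussSum_eq_card (hne h hh) (AddChar.IsPrimitive.of_ne_one he1)]
      congr 1
      simp only [G, gaussSum, map_sum, map_mul]
      refine Finset.sum_congr rfl fun x _ => ?_
      rw [AddChar.inv_apply, ← MulChar.star_apply', AddChar.map_neg_eq_inv,
        Complex.inv_eq_conj (Complex.norm_eq_one_of_pow_eq_one (hep x) hp.out.ne_zero)]
      rfl
    · obtain ⟨a, ha⟩ := exists_ne (0 : A)
      have hrne : (ρ h - 1 : AddMonoid.End A) ≠ 0 := sub_ne_zero.2 hh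
      have hrR : (ρ h - 1 : AddMonoid.End A) ∈ R :=
        R.sub_mem (Subring.subset_closure ⟨h, rfl⟩) R.one_mem
      refine (Nat.card_eq_fintype_card (α := R)).ge.trans ?_
      refine Nat.card_le_card_of_injective (fun r : R => (⟨(ρ h - 1 : AddMonoid.End A)
        ((r : AddMonoid.End A) a), (r : AddMonoid.End A) a, rfl⟩ :
          rangeSub (ρ h))) fun r s e' => ?_
      have e'' := congrArg Subtype.val e'
      simp only at e''
      have h1 : (r : AddMonoid.End A) a - (s : AddMonoid.End A) a = 0 :=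
        hinj _ hrR hrne _ (by rw [map_sub]; exact sub_eq_zero.2 e'')
      by_contra hrs
      exact ha (hinj ((r : AddMonoid.End A) - s) (R.sub_mem r.2 s.2)
        (fun h0 => hrs (Subtype.ext (sub_eq_zero.1 h0))) a h1)

/-- A transformation fixing a subgroup and its quotient pointwise, of finite order prime to `p`. -/
theorem eq_one_of_unipotent {A : Type*} [AddCommGroup A] (hexp : ∀ a : A, p • a = 0)
    {f : AddMonoid.End A} {m : ℕ} (hm : ¬ p ∣ m) (hfm : f ^ m = 1)
    (h2 : (f - 1) * (f - 1) = 0) : f = 1 := by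
  have hpow : ∀ k : ℕ, f ^ k = 1 + k • (f - 1) := by
    intro k
    induction k with
    | zero => simp
    | succ k ih =>
      rw [pow_succ, ih, add_mul, one_mul, smul_mul_assoc, succ_nsmul,
        show (f - 1) * f = f - 1 by
          calc (f - 1) * f = (f - 1) * (f - 1) + (f - 1) := by noncomm_ring
            _ = f - 1 := by rw [h2, zero_add]]
      abel
  have hp1 : f ^ p = 1 := by
    rw [hpow, show p • (f - 1 : AddMonoid.End A) = 0 from AddMonoidHom.ext fun a => hexp _, add_zero]
  have := pow_gcd_eq_one.2 ⟨hfm, hp1⟩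
  rwa [Nat.Coprime.gcd_eq_one ((hp.out.coprime_iff_not_dvd.2 hm).symm), pow_one] at this

universe u

/-- Every coprime action of an abelian group on an elementary abelian group has such a character. -/
theorem exists_good (hN : 0 < N) (hpN : p ∣ N) (hξ : IsPrimitiveRoot ξ N)
    (hH : ¬ p ∣ Nat.card H) :
    ∀ (m : ℕ) (A : Type u) [AddCommGroup A] [Finite A] (ρ : H →* AddMonoid.End A),
      (∀ a : A, p • a = 0) → Nat.card A ≤ m → ∃ g : H → ℂ, Good p N ξ ρ g := by
  intro m
  induction m with
  | zero => intro A _ _ ρ _ hc; exact absurd hc (Nat.card_pos).not_ge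
  | succ m ih =>
    intro A _ _ ρ hexp hc
    rcases subsingleton_or_nontrivial A with hA | hA
    · refine ⟨fun _ => 1, ?_, Or.inl rfl, fun h hh => absurd (AddMonoidHom.ext fun a =>
        Subsingleton.elim _ _) hh, fun h => ⟨1, by simp, Nat.one_le_iff_ne_zero.2 Nat.card_pos.ne'⟩⟩
      simpa using InSpan.of_hom (R := Algebra.adjoin ℤ ({ξ} : Set ℂ)) (1 : H →* ℂˣ)
    by_cases hirr : ∀ W : AddSubgroup A, (∀ h, ∀ w ∈ W, ρ h w ∈ W) → W = ⊥ ∨ W = ⊤
    · exact exists_good_irreducible hN hpN hξ ρ hexp hirr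
    push Not at hirr
    obtain ⟨W, hW, hWb, hWt⟩ := hirr
    let σ : H →* AddMonoid.End W :=
      { toFun := fun h => AddMonoidHom.mk' (fun w => ⟨ρ h w, hW h w w.2⟩) fun a b =>
          Subtype.ext (map_add (ρ h) a.1 b.1)
        map_one' := AddMonoidHom.ext fun w => Subtype.ext (congrArg (fun f : AddMonoid.End A => f (w : A)) (map_one ρ))
        map_mul' := fun a b => AddMonoidHom.ext fun w => Subtype.ext (congrArg (fun f : AddMonoid.End A => f (w : A)) (map_mul ρ a b)) }
    let τ : H →* AddMonoid.End (A ⧸ W) :=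
      { toFun := fun h => QuotientAddGroup.map W W (ρ h : A →+ A) fun w hw => hW h w hw
        map_one' := AddMonoidHom.ext fun x => by
          induction x using QuotientAddGroup.induction_on with
          | H z => exact congrArg (fun f : AddMonoid.End A => ((f z : A) : A ⧸ W)) (map_one ρ)
        map_mul' := fun a b => AddMonoidHom.ext fun x => by
          induction x using QuotientAddGroup.induction_on with
          | H z => exact congrArg (fun f : AddMonoid.End A => ((f z : A) : A ⧸ W)) (map_mul ρ a b) }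
    have hcard := AddSubgroup.card_eq_card_quotient_mul_card_addSubgroup W
    have h1 : 1 < Nat.card W := by
      have : Nontrivial W := (AddSubgroup.nontrivial_iff_ne_bot W).2 hWb
      exact Finite.one_lt_card
    have h2 : 1 < Nat.card (A ⧸ W) := by
      rw [← AddSubgroup.index]
      have : W.index ≠ 1 := fun h => hWt (AddSubgroup.index_eq_one.1 h)
      have : W.index ≠ 0 := AddSubgroup.index_ne_zero_of_finite
      omega
    obtain ⟨g, hg, hg1, hgs, hgn⟩ := ih W σ (fun a => Subtype.ext (hexp a.1)) (by nlinarith)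
    obtain ⟨g', hg', hg1', hgs', hgn'⟩ := ih (A ⧸ W) τ (fun x => by
      induction x using QuotientAddGroup.induction_on with
      | H a => rw [← QuotientAddGroup.mk_nsmul, hexp]; rfl) (by nlinarith)
    have hR : ∀ x ∈ Algebra.adjoin ℤ ({ξ} : Set ℂ), IsIntegral ℤ x := fun x hx =>
      adjoin_le_integralClosure (hξ.isIntegral hN) hx
    refine ⟨fun h => g h * g' h, hg.mul hg', ?_, fun h hh => ?_, fun h => ?_⟩
    · rcases hg1 with e | e <;> rcases hg1' with e' | e' <;> simp [e, e']
    · by_cases hs : σ h = 1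
      · refine (hgs' h fun ht => hh ?_).mul_left (hg.isIntegral hR h)
        refine eq_one_of_unipotent hexp (m := Nat.card H) hH
          (by rw [← map_pow, pow_card_eq_one', map_one]) (AddMonoidHom.ext fun a => ?_)
        have hmem : ρ h a - a ∈ W := by
          rw [← QuotientAddGroup.eq_zero_iff, QuotientAddGroup.mk_sub, sub_eq_zero]
          exact congrArg (fun f : AddMonoid.End (A ⧸ W) => f (a : A ⧸ W)) ht
        show ρ h (ρ h a - a) - (ρ h a - a) = 0
        rw [sub_eq_zero]
        exact congrArg (fun f : AddMonoid.End W => ((f ⟨_, hmem⟩ : W) : A)) hs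
      · exact (hgs h hs).mul_right (hg'.isIntegral hR h)
    · obtain ⟨n, hn, hle⟩ := hgn h
      obtain ⟨n', hn', hle'⟩ := hgn' h
      refine ⟨n * n', by rw [map_mul, Nat.cast_mul, ← hn, ← hn']; ring, ?_⟩
      refine (Nat.mul_le_mul hle hle').trans ?_
      set S := rangeSub (ρ h)
      let π : S →+ A ⧸ W := (QuotientAddGroup.mk' W).comp S.subtype
      have hK : Nat.card (rangeSub (σ h)) ≤ Nat.card π.ker := by
        refine Nat.card_le_card_of_injective (fun x => ⟨⟨((x : W) : A), by
          obtain ⟨w, hw⟩ := x.2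
          exact ⟨w, congrArg Subtype.val hw⟩⟩, (QuotientAddGroup.eq_zero_iff _).2 x.1.2⟩) ?_
        intro x y e
        exact Subtype.ext (Subtype.ext (congrArg (fun z : π.ker => ((z : S) : A)) e))
      have hI : Nat.card (rangeSub (τ h)) ≤ Nat.card π.range := by
        refine Nat.card_le_card_of_injective (fun x => ⟨x.1, ?_⟩) fun x y e =>
          Subtype.ext (congrArg (fun z : π.range => (z : A ⧸ W)) e)
        obtain ⟨z, hz⟩ := x.2
        induction z using QuotientAddGroup.induction_on with
        | H a => exact ⟨⟨_, a, rfl⟩, hz⟩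
      calc Nat.card (rangeSub (σ h)) *
            Nat.card (rangeSub (τ h))
          ≤ Nat.card π.ker * Nat.card π.range := Nat.mul_le_mul hK hI
        _ = Nat.card S := by rw [← AddSubgroup.index_ker, AddSubgroup.card_mul_index]

end CfsgLib.DegreeTools.KGV
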