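import Cfsg.Agent.Lib.DegreeTools.KGV.SpanTools

/-!
# Quadratic Gauss sums on commutators: the orthogonal case
-/

set_option autoImplicit false

namespace CfsgLib.DegreeTools.KGV

open CfsgLib CfsgLib.Char
open scoped Classical ComplexConjugate

variable {H : Type*} [Group H] [Fintype H] {p N : ℕ} [hp : Fact p.Prime] {ξ : ℂ}
variable {A : Type*} [AddCommGroup A]

/-- The additive character of `ℤ/p` at a primitive root. -/
noncomputable def chi {ζ : ℂ} (hζ : IsPrimitiveRoot ζ p) : AddChar (ZMod p) ℂ :=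
  AddChar.zmodChar p hζ.pow_eq_one

theorem chi_pow {ζ : ℂ} (hζ : IsPrimitiveRoot ζ p) (a : ZMod p) : chi hζ a ^ p = 1 := by
  rw [chi, AddChar.zmodChar_apply, ← pow_mul, mul_comm, pow_mul, hζ.pow_eq_one, one_pow]

theorem chi_eq_one_iff {ζ : ℂ} (hζ : IsPrimitiveRoot ζ p) (a : ZMod p) : chi hζ a = 1 ↔ a = 0 := by
  rw [chi, AddChar.zmodChar_apply, hζ.pow_eq_one_iff_dvd]
  constructor
  · intro h
    exact (ZMod.val_eq_zero a).1 (Nat.eq_zero_of_dvd_of_lt h (ZMod.val_lt a))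
  · rintro rfl
    simp

theorem chi_conj {ζ : ℂ} (hζ : IsPrimitiveRoot ζ p) (a : ZMod p) :
    conj (chi hζ a) = chi hζ (-a) := by
  rw [AddChar.map_neg_eq_inv,
    Complex.inv_eq_conj (Complex.norm_eq_one_of_pow_eq_one (chi_pow hζ a) hp.out.ne_zero)]

theorem chi_mem {ξ : ℂ} (hN : 0 < N) (hξ : IsPrimitiveRoot ξ N) (hpN : p ∣ N) (a : ZMod p) :
    chi (hξ.pow hN (Nat.div_mul_cancel hpN).symm) a ∈ Algebra.adjoin ℤ ({ξ} : Set ℂ) := by
  rw [chi, AddChar.zmodChar_apply]
  exact Subalgebra.pow_mem _ (Subalgebra.pow_mem _ (Algebra.self_mem_adjoin_singleton ℤ ξ) _) _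

/-- A nondegenerate Gauss sum has squared norm the size of the space. -/
theorem gauss_norm (hp2 : p ≠ 2) {ζ : ℂ} (hζ : IsPrimitiveRoot ζ p)
    (β : A →+ A →+ ZMod p) (hsym : ∀ x y, β x y = β y x) (S : AddSubgroup A) [Fintype S]
    (hnd : ∀ x ∈ S, (∀ y ∈ S, β x y = 0) → x = 0) :
    (∑ x : S, chi hζ (β x x)) * conj (∑ x : S, chi hζ (β x x)) = (Nat.card S : ℂ) := by
  rw [map_sum, Finset.sum_mul_sum]
  simp only [chi_conj]
  have hstep : ∀ x : S, ∑ y : S, chi hζ (β x x) * chi hζ (-β (y : A) y)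
      = ∑ d : S, chi hζ (-β (d : A) d) * chi hζ (-(2 * β (d : A) x)) := by
    intro x
    refine (Fintype.sum_equiv (Equiv.addLeft x) _ _ fun d => ?_).symm
    rw [Equiv.coe_addLeft, AddSubgroup.coe_add, ← AddChar.map_add_eq_mul, ← AddChar.map_add_eq_mul]
    congr 1
    simp only [map_add, AddMonoidHom.add_apply]
    rw [hsym x d]
    ring
  rw [Finset.sum_congr rfl fun x _ => hstep x, Finset.sum_comm]
  simp only [← Finset.mul_sum]
  rw [Finset.sum_eq_single 0]
  · simp [Nat.card_eq_fintype_card]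
  · intro d _ hd
    have h0 : ∑ x : S, chi hζ (-(2 * β (d : A) x)) = 0 := by
      obtain ⟨x₀, hx₀S, hx₀⟩ : ∃ y ∈ S, β d y ≠ 0 := by
        by_contra hc
        push Not at hc
        exact hd (Subtype.ext (hnd d d.2 hc))
      set c := chi hζ (-(2 * β (d : A) x₀))
      have hc : c ≠ 1 := fun h => by
        rw [chi_eq_one_iff, neg_eq_zero, mul_eq_zero] at h
        rcases h with h | h
        · have h2 : ((2 : ℕ) : ZMod p) = 0 := by exact_mod_cast h
          rw [ZMod.natCast_eq_zero_iff] at h2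
          exact hp2 ((Nat.prime_dvd_prime_iff_eq hp.out Nat.prime_two).1 h2)
        · exact hx₀ h
      have hshift : ∑ x : S, chi hζ (-(2 * β (d : A) x))
          = c * ∑ x : S, chi hζ (-(2 * β (d : A) x)) := by
        rw [Finset.mul_sum]
        refine (Fintype.sum_equiv (Equiv.addLeft (⟨x₀, hx₀S⟩ : S)) _ _ fun x => ?_).symm
        rw [Equiv.coe_addLeft, AddSubgroup.coe_add, ← AddChar.map_add_eq_mul]
        congr 1
        rw [map_add]
        ring
      by_contra h0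
      exact hc ((mul_eq_right₀ h0).1 hshift.symm)
    rw [h0, mul_zero]
  · exact fun h => absurd (Finset.mem_univ _) h

variable [Finite A]

/-- An invariant nondegenerate symmetric form in odd characteristic gives a good character. -/
theorem exists_good_orth (hN : 0 < N) (hpN : p ∣ N) (hξ : IsPrimitiveRoot ξ N)
    (hHN : Nat.card H ∣ N) (hH : ¬ p ∣ Nat.card H) (hp2 : p ≠ 2) (ρ : H →* AddMonoid.End A)
    (hexp : ∀ a : A, p • a = 0) (β : A →+ A →+ ZMod p) (hsym : ∀ x y, β x y = β y x)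
    (hinv : ∀ h x y, β (ρ h x) (ρ h y) = β x y) (hnd : ∀ x, (∀ y, β x y = 0) → x = 0) :
    ∃ g : H → ℂ, GoodFor p N ξ ρ g := by
  have := Fintype.ofFinite A
  set R := Algebra.adjoin ℤ ({ξ} : Set ℂ)
  set ζ := ξ ^ (N / p)
  have hζ : IsPrimitiveRoot ζ p := hξ.pow hN (Nat.div_mul_cancel hpN).symm
  let g : H → ℂ := fun h => ∑ x : rangeSub (ρ h), chi hζ (β x x)
  let f : H → ℂ := fun h => ∑ x : fixSub (ρ h), chi hζ (β x x)
  have horth : ∀ h, ∀ c ∈ fixSub (ρ h), ∀ r ∈ rangeSub (ρ h), β c r = 0 := by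
    intro h c hc r hr
    obtain ⟨y, rfl⟩ := mem_rangeSub.1 hr
    rw [map_sub, sub_eq_zero]
    conv_rhs => rw [← hinv h c y, mem_fixSub.1 hc]
  have hbij := fun h => exists_fix_add_range ρ hexp hp.out hH h
  have hndC : ∀ h, ∀ x ∈ fixSub (ρ h), (∀ y ∈ fixSub (ρ h), β x y = 0) → x = 0 := by
    intro h x hx hy
    refine hnd x fun z => ?_
    obtain ⟨⟨c, r⟩, rfl⟩ := (hbij h).2 z
    rw [map_add, hy c c.2, horth h x hx r r.2, add_zero]
  have hndR : ∀ h, ∀ x ∈ rangeSub (ρ h), (∀ y ∈ rangeSub (ρ h), β x y = 0) → x = 0 := by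
    intro h x hx hy
    refine hnd x fun z => ?_
    obtain ⟨⟨c, r⟩, rfl⟩ := (hbij h).2 z
    rw [map_add, hy r r.2, hsym, horth h c c.2 x hx, add_zero]
  have hsplit : ∀ h, f h * g h = ∑ x : A, chi hζ (β x x) := by
    intro h
    rw [Finset.sum_mul_sum, ← Fintype.sum_prod_type']
    refine Fintype.sum_equiv (Equiv.ofBijective _ (hbij h)) _ _ fun x => ?_
    rw [← AddChar.map_add_eq_mul, Equiv.ofBijective_apply]
    congr 1
    simp only [map_add, AddMonoidHom.add_apply]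
    rw [hsym x.2 x.1, horth h x.1 x.1.2 x.2 x.2.2]
    ring
  have hfn : ∀ h, f h * conj (f h) = (Nat.card (fixSub (ρ h)) : ℂ) :=
    fun h => gauss_norm hp2 hζ β hsym _ (hndC h)
  have hgn : ∀ h, g h * conj (g h) = (Nat.card (rangeSub (ρ h)) : ℂ) :=
    fun h => gauss_norm hp2 hζ β hsym _ (hndR h)
  have hfR : InSpan R (fun h => conj (f h)) := by
    have h1 := inSpan_fix_sum ρ (R := R) (fun x => chi hζ (-β x x))
      (fun x => chi_mem hN hξ hpN _) fun h x => by rw [hinv]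
    convert h1 using 2 with h
    rw [sum_fix_eq, map_sum]
    exact Finset.sum_congr rfl fun x _ => chi_conj hζ _
  have hg : InSpan R g := by
    obtain ⟨q, s, hq, hqπ⟩ := exists_fix_inv ρ (R := R) hexp
    refine InSpan.of_pow_mul hp.out hH (irr_mem_adjoin (p := p) hξ hN hHN)
      (fun h => R.sum_mem fun x _ => chi_mem hN hξ hpN _) s ?_
    have h2 := InSpan.smul (a := ∑ x : A, chi hζ (β x x))
      (R.sum_mem fun x _ => chi_mem hN hξ hpN _) (hfR.mul hq)
    convert h2 using 2 with h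
    rw [← hsplit h, ← hqπ h, ← hfn h]
    ring
  refine ⟨g, hg, Or.inl ?_, fun h hh => ?_, fun h => ⟨_, hgn h, le_rfl⟩⟩
  · have hsub : ∀ x : rangeSub (ρ 1), (x : A) = 0 := fun x => by
      obtain ⟨y, hy⟩ := mem_rangeSub.1 x.2
      rw [← hy, map_one, AddMonoid.End.coe_one, id_eq, sub_self]
    rw [show g 1 = ∑ x : rangeSub (ρ 1), chi hζ (β x x) from rfl,
      Finset.sum_eq_single 0 (fun x _ hx => absurd (Subtype.ext (hsub x)) hx)
        (fun h => absurd (Finset.mem_univ _) h)]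
    simp
  · refine Small.sum_roots hζ _ ?_ fun x _ => chi_pow hζ _
    rw [Finset.card_univ, ← Nat.card_eq_fintype_card]
    obtain ⟨j, hj⟩ := card_eq_pow (A := rangeSub (ρ h)) fun a => Subtype.ext (hexp a)
    rcases j with _ | j
    · refine absurd (AddMonoidHom.ext fun y => sub_eq_zero.1 ?_) hh
      have hb := AddSubgroup.eq_bot_of_card_eq _ (hj.trans (pow_zero p))
      have hm : ρ h y - y ∈ rangeSub (ρ h) := mem_rangeSub.2 ⟨y, rfl⟩
      rw [hb] at hm
      exact hm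
    · rw [hj]
      exact dvd_pow_self p (Nat.succ_ne_zero j)

end CfsgLib.DegreeTools.KGV
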