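import Cfsg.Agent.Lib.DegreeTools.KGV.Weil
import Mathlib.LinearAlgebra.FreeModule.Basic
import Mathlib.RingTheory.Finiteness.Basic
import Mathlib.LinearAlgebra.Basis.VectorSpace
import Mathlib.LinearAlgebra.Dimension.Free
import Mathlib.Data.ZMod.ValMinAbs

/-!
# Good characters for self-dual coprime modules
-/

set_option autoImplicit false

namespace CfsgLib.DegreeTools.KGV

open CfsgLib CfsgLib.Char
open scoped Classical ComplexConjugate

variable {p : ℕ} [hp : Fact p.Prime]

instance finite_addMonoidHom {B C : Type*} [AddCommGroup B] [AddCommGroup C] [Finite B] [Finite C] :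
    Finite (B →+ C) :=
  Finite.of_injective _ DFunLike.coe_injective

theorem card_hom_le {B : Type*} [AddCommGroup B] [Finite B] :
    Nat.card (B →+ ZMod p) ≤ Nat.card B := by
  have := Fintype.ofFinite B
  have hζ := Complex.isPrimitiveRoot_exp p hp.out.ne_zero
  rw [Nat.card_eq_fintype_card (α := B), ← AddChar.card_eq (α := B), ← Nat.card_eq_fintype_card]
  refine Nat.card_le_card_of_injective (fun f => (chi hζ).compAddMonoidHom f) fun f f' e => ?_
  refine AddMonoidHom.ext fun b => sub_eq_zero.1 ((chi_eq_one_iff hζ _).1 ?_)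
  have h1 := DFunLike.congr_fun e b
  simp only [AddChar.compAddMonoidHom_apply] at h1
  rw [AddChar.map_sub_eq_div, h1, div_self]
  exact fun h0 => by
    have h2 := chi_pow hζ (f' b)
    rw [h0, zero_pow hp.out.ne_zero] at h2
    exact zero_ne_one h2

variable {H : Type*} [Group H] [Fintype H] {A : Type*} [AddCommGroup A]
variable (ρ : H →* AddMonoid.End A)

/-- Restriction to an invariant subgroup. -/
def restr (W : AddSubgroup A) (hW : ∀ h, ∀ w ∈ W, ρ h w ∈ W) : H →* AddMonoid.End W where
  toFun h := AddMonoidHom.mk' (fun w => ⟨ρ h w, hW h w w.2⟩) fun a b =>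
    Subtype.ext (map_add (ρ h) a.1 b.1)
  map_one' := AddMonoidHom.ext fun w =>
    Subtype.ext (congrArg (fun f : AddMonoid.End A => f (w : A)) (map_one ρ))
  map_mul' a b := AddMonoidHom.ext fun w =>
    Subtype.ext (congrArg (fun f : AddMonoid.End A => f (w : A)) (map_mul ρ a b))

/-- The action on the quotient by an invariant subgroup. -/
def quotAct (W : AddSubgroup A) (hW : ∀ h, ∀ w ∈ W, ρ h w ∈ W) : H →* AddMonoid.End (A ⧸ W) where
  toFun h := QuotientAddGroup.map W W (ρ h : A →+ A) fun w hw => hW h w hw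
  map_one' := AddMonoidHom.ext fun x => by
    induction x using QuotientAddGroup.induction_on with
    | H z => exact congrArg (fun f : AddMonoid.End A => ((f z : A) : A ⧸ W)) (map_one ρ)
  map_mul' a b := AddMonoidHom.ext fun x => by
    induction x using QuotientAddGroup.induction_on with
    | H z => exact congrArg (fun f : AddMonoid.End A => ((f z : A) : A ⧸ W)) (map_mul ρ a b)

omit [Fintype H] in
@[simp] theorem coe_restr (W : AddSubgroup A) (hW : ∀ h, ∀ w ∈ W, ρ h w ∈ W) (h : H) (w : W) :
    ((restr ρ W hW h w : W) : A) = ρ h w := rfl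

omit [Fintype H] in
theorem quotAct_mk (W : AddSubgroup A) (hW : ∀ h, ∀ w ∈ W, ρ h w ∈ W) (h : H) (a : A) :
    quotAct ρ W hW h (a : A ⧸ W) = ((ρ h a : A) : A ⧸ W) := rfl

omit [Fintype H] in
/-- An element trivial on an invariant subgroup and its quotient is trivial. -/
theorem eq_one_of_trivial [Finite H] (hexp : ∀ a : A, p • a = 0) (hH : ¬ p ∣ Nat.card H) (h : H)
    (W : AddSubgroup A) (h1 : ∀ w ∈ W, ρ h w = w) (h2 : ∀ a, ρ h a - a ∈ W) : ρ h = 1 := by
  refine eq_one_of_unipotent hexp (m := Nat.card H) hH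
    (by rw [← map_pow, pow_card_eq_one', map_one]) (AddMonoidHom.ext fun a => ?_)
  show ρ h (ρ h a - a) - (ρ h a - a) = 0
  rw [h1 _ (h2 a), sub_self]

theorem trivial_of_one_good {N : ℕ} {ξ : ℂ} (htriv : ∀ h, ρ h = 1) [Finite A] :
    GoodFor p N ξ ρ fun _ => 1 :=
  ⟨InSpan.const (Subalgebra.one_mem _), Or.inl rfl, fun h hh => absurd (htriv h) hh,
    fun h => ⟨1, by simp, Nat.one_le_iff_ne_zero.2 Nat.card_pos.ne'⟩⟩

/-- The radical-type subgroup orthogonal to `W`. -/
def perp (β : A →+ A →+ ZMod p) (W : AddSubgroup A) : AddSubgroup A where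
  carrier := {u | ∀ w ∈ W, β u w = 0}
  zero_mem' := fun w _ => by rw [map_zero]; rfl
  add_mem' ha hb w hw := by rw [map_add, AddMonoidHom.add_apply, ha w hw, hb w hw, add_zero]
  neg_mem' ha w hw := by rw [map_neg, AddMonoidHom.neg_apply, ha w hw, neg_zero]

theorem mem_perp {β : A →+ A →+ ZMod p} {W : AddSubgroup A} {u : A} :
    u ∈ perp β W ↔ ∀ w ∈ W, β u w = 0 := Iff.rfl

variable [Finite A]

theorem right_nondeg {β : A →+ A →+ ZMod p} (hnd : ∀ x, (∀ y, β x y = 0) → x = 0) :
    ∀ x, (∀ u, β u x = 0) → x = 0 := by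
  intro x hx
  let X : AddSubgroup A := AddMonoidHom.ker β.flip
  have hxX : x ∈ X := AddMonoidHom.ext hx
  have hinj : Function.Injective fun u : A => QuotientAddGroup.lift X (β u) (fun z hz => by
      show β u z = 0
      exact DFunLike.congr_fun (hz : β.flip z = 0) u) := fun u u' e => by
    refine sub_eq_zero.1 (hnd _ fun y => ?_)
    have h1 : β u y = β u' y := DFunLike.congr_fun e (y : A ⧸ X)
    rw [map_sub, AddMonoidHom.sub_apply, h1, sub_self]
  have hle := (Nat.card_le_card_of_injective _ hinj).trans card_hom_le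
  have hc := AddSubgroup.card_eq_card_quotient_mul_card_addSubgroup X
  have hX1 : Nat.card X = 1 := by
    have : 0 < Nat.card X := Nat.card_pos
    have : 0 < Nat.card (A ⧸ X) := Nat.card_pos
    nlinarith
  rw [AddSubgroup.eq_bot_of_card_eq _ hX1] at hxX
  exact hxX

theorem exists_twist {β : A →+ A →+ ZMod p} (hnd : ∀ x, (∀ y, β x y = 0) → x = 0)
    (hinv : ∀ h x y, β (ρ h x) (ρ h y) = β x y) :
    ∃ T : AddMonoid.End A, Function.Bijective T ∧ (∀ u v, β u v = β v (T u)) ∧
      ∀ h u, T (ρ h u) = ρ h (T u) := by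
  have hR := right_nondeg hnd
  have hRi : Function.Injective β.flip := fun x y e => sub_eq_zero.1 (hR _ fun u => by
    rw [map_sub, sub_eq_zero]
    exact DFunLike.congr_fun e u)
  have hLi : Function.Injective β := fun x y e => sub_eq_zero.1 (hnd _ fun u => by
    rw [map_sub, e, sub_self]; rfl)
  have : Finite (A →+ ZMod p) := Finite.of_injective _ DFunLike.coe_injective
  have hbR : Function.Bijective β.flip := (Nat.bijective_iff_injective_and_card _).2
    ⟨hRi, le_antisymm (Nat.card_le_card_of_injective _ hRi) card_hom_le⟩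
  let e : A ≃+ (A →+ ZMod p) := AddEquiv.ofBijective _ hbR
  refine ⟨e.symm.toAddMonoidHom.comp β, e.symm.injective.comp hLi |> Finite.injective_iff_bijective.1,
    fun u v => ?_, fun h u => hRi (AddMonoidHom.ext fun v => ?_)⟩
  · have h1 : β.flip (e.symm (β u)) = β u := e.apply_symm_apply (β u)
    exact (DFunLike.congr_fun h1 v).symm
  · have h1 : ∀ w x, β x (e.symm (β w)) = β w x := fun w x =>
      DFunLike.congr_fun (e.apply_symm_apply (β w)) x
    show β v (e.symm (β (ρ h u))) = β v (ρ h (e.symm (β u)))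
    rw [h1, show v = ρ h (ρ h⁻¹ v) by
      rw [← Function.comp_apply (f := ρ h), ← AddMonoid.End.coe_mul, ← map_mul, mul_inv_cancel,
        map_one]; rfl, hinv, hinv, h1]

omit [Fintype H] [Finite A] in
theorem inv_apply_self (h : H) (a : A) : ρ h⁻¹ (ρ h a) = a := by
  rw [← Function.comp_apply (f := ρ h⁻¹), ← AddMonoid.End.coe_mul, ← map_mul, inv_mul_cancel,
    map_one]
  rfl

omit [Fintype H] [Finite A] in
theorem apply_inv_self (h : H) (a : A) : ρ h (ρ h⁻¹ a) = a := by
  simpa using inv_apply_self ρ h⁻¹ a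

theorem exists_form_of_alternating_module [Module (ZMod p) A] (β : A →+ A →+ ZMod p)
    (halt : ∀ x, β x x = 0) : ∃ c : A →+ A →+ ZMod p, ∀ x y, c x y - c y x = β x y := by
  let b := Module.finBasis (ZMod p) A
  let ι := Fin (Module.finrank (ZMod p) A)
  let c0 : A → A → ZMod p := fun x y =>
    ∑ i : ι, ∑ j : ι, if i < j then b.repr x i * b.repr y j * β (b i) (b j) else 0
  let c : A →+ A →+ ZMod p := AddMonoidHom.mk' (fun x => AddMonoidHom.mk' (c0 x) fun y y' => by
      simp only [c0, ← Finset.sum_add_distrib]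
      refine Finset.sum_congr rfl fun i _ => Finset.sum_congr rfl fun j _ => ?_
      split_ifs
      · rw [map_add, Finsupp.add_apply]; ring
      · rw [add_zero])
    fun x x' => AddMonoidHom.ext fun y => by
      show c0 (x + x') y = c0 x y + c0 x' y
      simp only [c0, ← Finset.sum_add_distrib]
      refine Finset.sum_congr rfl fun i _ => Finset.sum_congr rfl fun j _ => ?_
      split_ifs
      · rw [map_add, Finsupp.add_apply]; ring
      · rw [add_zero]
  refine ⟨c, fun x y => ?_⟩
  have hanti : ∀ u v, β v u = -β u v := fun u v => by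
    have h := halt (u + v)
    simp only [map_add, AddMonoidHom.add_apply, halt, zero_add, add_zero] at h
    linear_combination h
  have hexpand : ∀ x y, β x y = ∑ i : ι, ∑ j : ι, b.repr x i * b.repr y j * β (b i) (b j) := by
    intro x y
    conv_lhs => rw [← b.sum_repr x, ← b.sum_repr y]
    simp only [map_sum, AddMonoidHom.finsetSum_apply, ZMod.map_smul]
    simp only [AddMonoidHom.smul_apply, smul_eq_mul, Finset.mul_sum]
    rw [Finset.sum_comm]
    refine Finset.sum_congr rfl fun i _ => Finset.sum_congr rfl fun j _ => ?_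
    ring
  show c0 x y - c0 y x = β x y
  rw [hexpand, show c0 y x = ∑ i : ι, ∑ j : ι,
    if j < i then b.repr y j * b.repr x i * β (b j) (b i) else 0 from Finset.sum_comm]
  simp only [c0, ← Finset.sum_sub_distrib]
  refine Finset.sum_congr rfl fun i _ => Finset.sum_congr rfl fun j _ => ?_
  rcases lt_trichotomy i j with h | h | h
  · rw [if_pos h, if_neg h.asymm, sub_zero]
  · subst h
    simp [halt]
  · rw [if_neg h.asymm, if_pos h, hanti]
    ring

/-- A form with given alternating part. -/
theorem exists_form_of_alternating (hexp : ∀ a : A, p • a = 0) (β : A →+ A →+ ZMod p)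
    (halt : ∀ x, β x x = 0) : ∃ c : A →+ A →+ ZMod p, ∀ x y, c x y - c y x = β x y :=
  @exists_form_of_alternating_module p hp A _ _ (AddCommGroup.zmodModule hexp) β halt

/-- The alternating case: average a form with the right alternating part. -/
theorem exists_invariant_form (hexp : ∀ a : A, p • a = 0) (hH : ¬ p ∣ Nat.card H)
    (β : A →+ A →+ ZMod p) (halt : ∀ x, β x x = 0)
    (hinv : ∀ h x y, β (ρ h x) (ρ h y) = β x y) (hnd : ∀ x, (∀ y, β x y = 0) → x = 0) :
    ∃ c : A →+ A →+ ZMod p, (∀ h x y, c (ρ h x) (ρ h y) = c x y) ∧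
      ∀ x, (∀ y, c x y - c y x = 0) → x = 0 := by
  obtain ⟨c, hc⟩ := exists_form_of_alternating hexp β halt
  let c' : A →+ A →+ ZMod p := ∑ h : H, (c.compl₂ (ρ h : A →+ A)).comp (ρ h : A →+ A)
  have hc' : ∀ x y, c' x y = ∑ h : H, c (ρ h x) (ρ h y) := fun x y => by
    simp only [c', AddMonoidHom.finsetSum_apply]
    rfl
  refine ⟨c', fun g x y => ?_, fun x hx => hnd x fun y => ?_⟩
  · rw [hc', hc']
    refine Fintype.sum_equiv (Equiv.mulRight g) _ _ fun h => ?_
    rw [Equiv.coe_mulRight, map_mul]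
    rfl
  · have h1 := hx y
    rw [hc', hc', ← Finset.sum_sub_distrib] at h1
    simp only [hc, hinv, Finset.sum_const, Finset.card_univ, nsmul_eq_mul] at h1
    refine (mul_eq_zero.1 h1).resolve_left fun h0 => hH ?_
    rw [Nat.card_eq_fintype_card, ← ZMod.natCast_eq_zero_iff]
    exact h0

section Recursion

variable {N : ℕ} {ξ : ℂ}

/-- No proper nonzero subgroup stable under the action and the twist. -/
theorem exists_good_minimal (hN : 0 < N) (hpN : p ∣ N) (hξ : IsPrimitiveRoot ξ N)
    (hHN : Nat.card H ∣ N) (hH : ¬ p ∣ Nat.card H) (hexp : ∀ a : A, p • a = 0)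
    (β : A →+ A →+ ZMod p) (hinv : ∀ h x y, β (ρ h x) (ρ h y) = β x y)
    (hnd : ∀ x, (∀ y, β x y = 0) → x = 0) (T : AddMonoid.End A) (hTb : Function.Bijective T)
    (hT : ∀ u v, β u v = β v (T u))
    (hmin : ∀ W : AddSubgroup A, (∀ h, ∀ w ∈ W, ρ h w ∈ W) → (∀ w ∈ W, T w ∈ W) →
      W = ⊥ ∨ W = ⊤) : ∃ g : H → ℂ, GoodFor p N ξ ρ g := by
  let R0 : AddSubgroup A := AddMonoidHom.ker (β - β.flip)
  have hR0 : ∀ {x}, x ∈ R0 ↔ ∀ y, β x y = β y x := fun {x} => by
    simp only [R0, AddMonoidHom.mem_ker, DFunLike.ext_iff, AddMonoidHom.sub_apply,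
      AddMonoidHom.flip_apply, AddMonoidHom.zero_apply, sub_eq_zero]
  have hTT : ∀ u v, β (T u) (T v) = β u v := fun u v => by rw [← hT, ← hT]
  rcases hmin R0 (fun h w hw => hR0.2 fun y => by
      rw [← apply_inv_self ρ h y, hinv, hinv]
      exact hR0.1 hw _)
    (fun w hw => hR0.2 fun y => by
      obtain ⟨z, rfl⟩ := hTb.2 y
      rw [hTT, hTT]
      exact hR0.1 hw z) with hb | ht
  · refine exists_good_weil hN hpN hξ hHN hH ρ hexp β hinv fun x hx => ?_
    have : x ∈ R0 := hR0.2 fun y => sub_eq_zero.1 (hx y)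
    rw [hb] at this
    exact this
  have hsym : ∀ x y, β x y = β y x := fun x => hR0.1 (ht ▸ AddSubgroup.mem_top x)
  by_cases hp2 : p = 2
  swap
  · exact exists_good_orth hN hpN hξ hHN hH hp2 ρ hexp β hsym hinv hnd
  subst hp2
  let lam : A →+ ZMod 2 := AddMonoidHom.mk' (fun x => β x x) fun x y => by
    simp only [map_add, AddMonoidHom.add_apply]
    rw [hsym y x]
    have h2 : (2 : ZMod 2) = 0 := rfl
    linear_combination (β x y) * h2
  rcases hmin lam.ker (fun h w hw => by
      show β (ρ h w) (ρ h w) = 0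
      rw [hinv]; exact hw) (fun w hw => by
      show β (T w) (T w) = 0
      rw [hTT]; exact hw) with hb | ht'
  · refine ⟨_, trivial_of_one_good ρ fun h => AddMonoidHom.ext fun x => ?_⟩
    exact (AddMonoidHom.ker_eq_bot_iff lam).1 hb (hinv h x x)
  · obtain ⟨c, hc, hcnd⟩ := exists_invariant_form ρ hexp hH β
      (fun x => show x ∈ lam.ker from ht' ▸ AddSubgroup.mem_top x) hinv hnd
    exact exists_good_weil hN hpN hξ hHN hH ρ hexp c hc hcnd

omit [Fintype H] [Finite A] in
theorem mem_perp_right {β : A →+ A →+ ZMod p} {T : AddMonoid.End A} {W : AddSubgroup A}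
    (hT : ∀ u v, β u v = β v (T u)) (hTW : ∀ w ∈ W, T w ∈ W) {u : A} (hu : u ∈ perp β W) :
    ∀ w ∈ W, β w u = 0 := fun w hw => by rw [hT]; exact hu _ (hTW w hw)

theorem card_perp_mul {β : A →+ A →+ ZMod p} (hnd : ∀ x, (∀ y, β x y = 0) → x = 0)
    (W : AddSubgroup A) : Nat.card (perp β W) * Nat.card W = Nat.card A := by
  set P := perp β W
  have : Finite (W →+ ZMod p) := Finite.of_injective _ DFunLike.coe_injective
  have : Finite (A ⧸ P →+ ZMod p) := Finite.of_injective _ DFunLike.coe_injective
  let f : A →+ (W →+ ZMod p) := AddMonoidHom.mk' (fun u => (β u).comp W.subtype) fun a b => by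
    ext w; simp
  have hker : f.ker = P := by
    ext u
    simp only [AddMonoidHom.mem_ker, DFunLike.ext_iff, f, AddMonoidHom.mk'_apply]
    exact ⟨fun h w hw => h ⟨w, hw⟩, fun h w => h w w.2⟩
  have h1 : Nat.card (A ⧸ P) ≤ Nat.card W := by
    rw [← hker, ← AddSubgroup.index, AddSubgroup.index_ker]
    exact (Nat.le_of_dvd Nat.card_pos (AddSubgroup.card_addSubgroup_dvd_card _)).trans card_hom_le
  have h2 : Nat.card W ≤ Nat.card (A ⧸ P) := by
    refine (Nat.card_le_card_of_injective (fun w : W => QuotientAddGroup.lift P (β.flip (w : A))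
      (fun u hu => hu w w.2)) fun w w' e => Subtype.ext (sub_eq_zero.1 (right_nondeg hnd _
        fun u => ?_))).trans card_hom_le
    have h1 : β u (w : A) = β u (w' : A) := DFunLike.congr_fun e (u : A ⧸ P)
    rw [map_sub, h1, sub_self]
  rw [← le_antisymm h1 h2, mul_comm, ← AddSubgroup.card_eq_card_quotient_mul_card_addSubgroup]

theorem exists_good_selfDual (hN : 0 < N) (hpN : p ∣ N) (hξ : IsPrimitiveRoot ξ N)
    (hHN : Nat.card H ∣ N) (hH : ¬ p ∣ Nat.card H) :
    ∀ (m : ℕ) (A : Type*) [AddCommGroup A] [Finite A] (ρ : H →* AddMonoid.End A)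
      (β : A →+ A →+ ZMod p), (∀ a : A, p • a = 0) → (∀ h x y, β (ρ h x) (ρ h y) = β x y) →
      (∀ x, (∀ y, β x y = 0) → x = 0) → Nat.card A ≤ m → ∃ g : H → ℂ, GoodFor p N ξ ρ g := by
  have hR : ∀ x ∈ Algebra.adjoin ℤ ({ξ} : Set ℂ), IsIntegral ℤ x := fun x hx =>
    adjoin_le_integralClosure (hξ.isIntegral hN) hx
  have hζ : IsPrimitiveRoot (ξ ^ (N / p)) p := hξ.pow hN (Nat.div_mul_cancel hpN).symm
  intro m
  induction m with
  | zero => intro A _ _ ρ β _ _ _ hc; exact absurd hc (Nat.card_pos).not_ge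
  | succ m ih =>
    intro A _ _ ρ β hexp hinv hnd hc
    obtain ⟨T, hTb, hT, hTρ⟩ := exists_twist ρ hnd hinv
    by_cases hmin : ∀ W : AddSubgroup A, (∀ h, ∀ w ∈ W, ρ h w ∈ W) → (∀ w ∈ W, T w ∈ W) →
      W = ⊥ ∨ W = ⊤
    · exact exists_good_minimal ρ hN hpN hξ hHN hH hexp β hinv hnd T hTb hT hmin
    push Not at hmin
    obtain ⟨W₀, hW₀, hTW₀, hW₀b, hW₀t⟩ := hmin
    have hperp : ∀ W : AddSubgroup A, (∀ h, ∀ w ∈ W, ρ h w ∈ W) → (∀ w ∈ W, T w ∈ W) →
        (∀ h, ∀ w ∈ perp β W, ρ h w ∈ perp β W) ∧ ∀ w ∈ perp β W, T w ∈ perp β W := by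
      intro W hW hTW
      refine ⟨fun h u hu w hw => ?_, fun u hu => ?_⟩
      · rw [← apply_inv_self ρ h w, hinv]
        exact hu _ (hW _ w hw)
      · have hTW' : ∀ w ∈ W, ∃ z ∈ W, T z = w := fun w hw => by
          obtain ⟨z, hz⟩ := (Finite.injective_iff_surjective.1
            (fun a b (e : (⟨T a.1, hTW a.1 a.2⟩ : W) = ⟨T b.1, hTW b.1 b.2⟩) =>
              Subtype.ext (hTb.1 (congrArg Subtype.val e)) :
              Function.Injective fun a : W => (⟨T a.1, hTW a.1 a.2⟩ : W))) ⟨w, hw⟩
          exact ⟨z, z.2, congrArg Subtype.val hz⟩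
        intro w hw
        obtain ⟨z, hz, rfl⟩ := hTW' w hw
        rw [← hT, ← hT]
        exact hu z hz
    obtain ⟨hP0, hTP0⟩ := hperp W₀ hW₀ hTW₀
    by_cases hrad : W₀ ⊓ perp β W₀ = ⊥
    · -- a nondegenerate invariant subgroup and its orthogonal
      set P := perp β W₀
      have hcard := card_perp_mul hnd W₀
      have hbij : Function.Bijective fun x : W₀ × P => (x.1 : A) + x.2 := by
        refine (Nat.bijective_iff_injective_and_card _).2 ⟨?_, ?_⟩
        · rintro ⟨a, b⟩ ⟨a', b'⟩ e
          have e' : (a : A) - a' = b' - b := by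
            have e2 : (a : A) + b = a' + b' := e
            rw [sub_eq_iff_eq_add, sub_add_eq_add_sub, eq_sub_iff_add_eq, e2, add_comm]
          have h0 : (a : A) - a' ∈ W₀ ⊓ P :=
            ⟨W₀.sub_mem a.2 a'.2, e' ▸ P.sub_mem b'.2 b.2⟩
          rw [hrad, AddSubgroup.mem_bot] at h0
          have h0' : (b' : A) - b = 0 := e' ▸ h0
          exact Prod.ext (Subtype.ext (sub_eq_zero.1 h0)) (Subtype.ext (sub_eq_zero.1 h0').symm)
        · rw [Nat.card_prod, mul_comm, hcard]
      have hW2 : 1 < Nat.card W₀ := by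
        have : Nontrivial W₀ := (AddSubgroup.nontrivial_iff_ne_bot _).2 hW₀b
        exact Finite.one_lt_card
      have hP2 : 1 < Nat.card P := by
        rcases Nat.lt_or_ge 1 (Nat.card P) with h | h
        · exact h
        · have hP1 : Nat.card P = 1 := le_antisymm h Nat.card_pos
          rw [hP1, one_mul] at hcard
          exact absurd (AddSubgroup.eq_top_of_card_eq _ hcard) hW₀t
      obtain ⟨g, hg, hg1, hgs, hgn⟩ := ih W₀ (restr ρ W₀ hW₀)
        (AddMonoidHom.mk' (fun x => (β (x : A)).comp W₀.subtype) fun a b => by ext; simp)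
        (fun a => Subtype.ext (hexp a.1)) (fun h x y => hinv h x y)
        (fun x hx => by
          have : (x : A) ∈ W₀ ⊓ perp β W₀ := ⟨x.2, fun w hw => hx ⟨w, hw⟩⟩
          rw [hrad] at this
          exact Subtype.ext this) (by nlinarith)
      obtain ⟨g', hg', hg1', hgs', hgn'⟩ := ih P (restr ρ P hP0)
        (AddMonoidHom.mk' (fun x => (β (x : A)).comp P.subtype) fun a b => by ext; simp)
        (fun a => Subtype.ext (hexp a.1)) (fun h x y => hinv h x y)
        (fun x hx => Subtype.ext (hnd _ fun z => by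
          obtain ⟨⟨a, b⟩, rfl⟩ := hbij.2 z
          show β (x : A) ((a : A) + b) = 0
          rw [map_add, x.2 a a.2, zero_add]
          exact hx b)) (by nlinarith)
      refine ⟨fun h => g h * g' h, hg.mul hg', ?_, fun h hh => ?_, fun h => ?_⟩
      · rcases hg1 with e | e <;> rcases hg1' with e' | e' <;> simp [e, e']
      · by_cases hs : restr ρ W₀ hW₀ h = 1
        · refine (hgs' h fun ht => hh (AddMonoidHom.ext fun x => ?_)).mul_left (hg.isIntegral hR h)
          obtain ⟨⟨a, b⟩, rfl⟩ := hbij.2 x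
          have ha : ρ h (a : A) = a :=
            congrArg (fun f : AddMonoid.End W₀ => ((f a : W₀) : A)) hs
          have hb : ρ h (b : A) = b :=
            congrArg (fun f : AddMonoid.End P => ((f b : P) : A)) ht
          show ρ h ((a : A) + b) = (a : A) + b
          rw [map_add, ha, hb]
        · exact (hgs h hs).mul_right (hg'.isIntegral hR h)
      · obtain ⟨n, hn, hle⟩ := hgn h
        obtain ⟨n', hn', hle'⟩ := hgn' h
        refine ⟨n * n', by rw [map_mul, Nat.cast_mul, ← hn, ← hn']; ring, ?_⟩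
        refine (Nat.mul_le_mul hle hle').trans ?_
        rw [← Nat.card_prod]
        refine Nat.card_le_card_of_injective (fun x => ⟨((x.1 : W₀) : A) + ((x.2 : P) : A), ?_⟩)
          fun x y e => ?_
        · obtain ⟨a, ha⟩ := mem_rangeSub.1 x.1.2
          obtain ⟨b, hb⟩ := mem_rangeSub.1 x.2.2
          refine mem_rangeSub.2 ⟨(a : A) + b, ?_⟩
          rw [← ha, ← hb, map_add, AddSubgroup.coe_sub, AddSubgroup.coe_sub, coe_restr, coe_restr]
          abel
        · have := @hbij.1 ((x.1 : W₀), (x.2 : P)) ((y.1 : W₀), (y.2 : P)) (congrArg Subtype.val e)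
          rw [Prod.mk.injEq] at this
          exact Prod.ext (Subtype.ext this.1) (Subtype.ext this.2)
    -- a totally isotropic invariant subgroup
    set W := W₀ ⊓ perp β W₀ with hWdef
    have hW : ∀ h, ∀ w ∈ W, ρ h w ∈ W := fun h w hw => ⟨hW₀ h w hw.1, hP0 h w hw.2⟩
    have hTW : ∀ w ∈ W, T w ∈ W := fun w hw => ⟨hTW₀ w hw.1, hTP0 w hw.2⟩
    set P := perp β W
    obtain ⟨hP, -⟩ := hperp W hW hTW
    have hPR : ∀ u ∈ P, ∀ w ∈ W, β w u = 0 := fun u hu => mem_perp_right hT hTW hu
    have hWP : W ≤ P := fun w hw z hz => hw.2 z hz.1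
    set W' := W.addSubgroupOf P
    have hW' : ∀ h, ∀ w ∈ W', restr ρ P hP h w ∈ W' := fun h w hw =>
      AddSubgroup.mem_addSubgroupOf.2 (hW h _ (AddSubgroup.mem_addSubgroupOf.1 hw))
    set σ := quotAct (restr ρ P hP) W' hW'
    let inner : P → (P ⧸ W' →+ ZMod p) := fun x => QuotientAddGroup.lift W'
      ((β (x : A)).comp P.subtype) fun w hw => x.2 _ (AddSubgroup.mem_addSubgroupOf.1 hw)
    let β' : P ⧸ W' →+ P ⧸ W' →+ ZMod p := QuotientAddGroup.lift W'
      (AddMonoidHom.mk' inner fun a b => AddMonoidHom.ext fun y => by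
        induction y using QuotientAddGroup.induction_on with
        | H z =>
          show β ((a : A) + b) (z : A) = β (a : A) z + β (b : A) z
          rw [map_add, AddMonoidHom.add_apply])
      fun w hw => AddMonoidHom.ext fun y => by
        induction y using QuotientAddGroup.induction_on with
        | H z => exact hPR z z.2 _ (AddSubgroup.mem_addSubgroupOf.1 hw)
    have hWcard : 1 < Nat.card W := by
      have : Nontrivial W := (AddSubgroup.nontrivial_iff_ne_bot _).2 hrad
      exact Finite.one_lt_card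
    have hMcard : Nat.card (P ⧸ W') ≤ m := by
      have h1 := AddSubgroup.card_eq_card_quotient_mul_card_addSubgroup W'
      have h2 : Nat.card W' = Nat.card W :=
        Nat.card_congr (AddSubgroup.addSubgroupOfEquivOfLe hWP).toEquiv
      have h3 : Nat.card P ≤ Nat.card A := Nat.le_of_dvd Nat.card_pos (AddSubgroup.card_addSubgroup_dvd_card P)
      rw [h2] at h1
      have h4 : 0 < Nat.card (P ⧸ W') := Nat.card_pos
      nlinarith
    obtain ⟨g, hg, hg1, hgs, hgn⟩ := ih (P ⧸ W') σ β'
      (fun x => by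
        induction x using QuotientAddGroup.induction_on with
        | H a => rw [← QuotientAddGroup.mk_nsmul, show p • a = 0 from Subtype.ext (hexp a.1)]; rfl)
      (fun h x y => by
        induction x using QuotientAddGroup.induction_on with
        | H a =>
          induction y using QuotientAddGroup.induction_on with
          | H b => exact hinv h a.1 b.1)
      (fun x hx => by
        induction x using QuotientAddGroup.induction_on with
        | H a =>
          rw [QuotientAddGroup.eq_zero_iff, AddSubgroup.mem_addSubgroupOf]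
          -- `P`'s orthogonal is `W`
          have hle : W ≤ perp β P := fun w hw u hu => hPR u hu w hw
          have hcard := (card_perp_mul hnd P).trans (card_perp_mul hnd W).symm
          rw [mul_comm (Nat.card P)] at hcard
          have heq : Nat.card (perp β P) = Nat.card W :=
            Nat.eq_of_mul_eq_mul_right Nat.card_pos hcard
          have hmem : (a : A) ∈ perp β P := fun u hu => hx ((⟨u, hu⟩ : P) : P ⧸ W')
          rwa [AddSubgroup.eq_of_le_of_card_ge hle heq.le])
      hMcard
    set σW := restr ρ W hW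
    set τ := quotAct ρ P hP
    have hpair : ∀ h, Nat.card (rangeSub (σW h)) ≤ Nat.card (rangeSub (τ h)) := by
      intro h
      refine (Nat.card_le_card_of_injective (fun w : rangeSub (σW h) =>
        (QuotientAddGroup.lift P (β.flip ((w : W) : A)) (fun u hu => hu _ (w : W).2)).comp
          (rangeSub (τ h)).subtype) fun w w' e => ?_).trans card_hom_le
      refine Subtype.ext (sub_eq_zero.1 (eq_zero_of_fix_of_range σW
        (fun a => Subtype.ext (hexp a.1)) hp.out hH h ?_ ((rangeSub (σW h)).sub_mem w.2 w'.2)))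
      rw [mem_fixSub]
      apply Subtype.ext
      set d : A := (((w : W) - (w' : W) : W) : A) with hd
      show ρ h d = d
      have key : ρ h⁻¹ d = d := sub_eq_zero.1 (right_nondeg hnd _ fun a => by
        have h1 := DFunLike.congr_fun e ⟨((ρ h a - a : A) : A ⧸ P), mem_rangeSub.2 ⟨(a : A ⧸ P), rfl⟩⟩
        have h1' : β (ρ h a - a) ((w : W) : A) = β (ρ h a - a) ((w' : W) : A) := h1
        have h2 : β (ρ h a - a) d = 0 := by
          rw [hd, AddSubgroup.coe_sub, map_sub, h1', sub_self]
        rw [map_sub, AddMonoidHom.sub_apply] at h2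
        conv_lhs at h2 => arg 1; rw [← apply_inv_self ρ h d, hinv]
        rw [map_sub]
        exact h2)
      conv_lhs => rw [← key]
      exact apply_inv_self ρ h d
    refine ⟨fun h => (Nat.card (rangeSub (σW h)) : ℂ) * g h, ?_, ?_, fun h hh => ?_, fun h => ?_⟩
    · refine InSpan.mul ?_ hg
      obtain ⟨q, s, hq, hqπ⟩ := exists_fix_inv σW (fun a => Subtype.ext (hexp a.1))
      refine InSpan.of_pow_mul hp.out hH (irr_mem_adjoin (p := p) hξ hN hHN)
        (fun h => natCast_mem _ _) s ?_
      have h2 := InSpan.smul (a := (Nat.card W : ℂ)) (natCast_mem (Algebra.adjoin ℤ ({ξ} : Set ℂ)) _) hq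
      convert h2 using 2 with h
      rw [← hqπ h, ← card_fix_mul_range (σW h)]
      push_cast
      ring
    · have h1 : Nat.card (rangeSub (σW 1)) = 1 := by
        have : rangeSub (σW 1) = ⊥ := by
          rw [AddSubgroup.eq_bot_iff_forall]
          intro x hx
          obtain ⟨y, rfl⟩ := mem_rangeSub.1 hx
          rw [map_one, AddMonoid.End.coe_one, id_eq, sub_self]
        rw [this, AddSubgroup.card_bot]
      simp only [h1, Nat.cast_one, one_mul]
      exact hg1
    · obtain ⟨j, hj⟩ := card_eq_pow (A := rangeSub (σW h)) fun a => Subtype.ext (Subtype.ext (hexp a.1.1))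
      rcases j with _ | j
      · refine (hgs h fun hσ => hh ?_).mul_left (CharDeep.Glauberman.isIntegral_natCast _)
        have hWfix : ∀ w ∈ W, ρ h w = w := fun w hw => by
          have hb := AddSubgroup.eq_bot_of_card_eq _ (hj.trans (pow_zero p))
          have hm : σW h ⟨w, hw⟩ - ⟨w, hw⟩ ∈ rangeSub (σW h) := mem_rangeSub.2 ⟨⟨w, hw⟩, rfl⟩
          rw [hb, AddSubgroup.mem_bot, sub_eq_zero] at hm
          exact congrArg Subtype.val hm
        have hP1 : restr ρ P hP h = 1 := eq_one_of_trivial (restr ρ P hP)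
          (fun a => Subtype.ext (hexp a.1)) hH h W' (fun w hw => Subtype.ext
            (hWfix _ (AddSubgroup.mem_addSubgroupOf.1 hw))) fun a => by
          rw [← QuotientAddGroup.eq_zero_iff, QuotientAddGroup.mk_sub, sub_eq_zero]
          exact congrArg (fun f : AddMonoid.End (P ⧸ W') => f (a : P ⧸ W')) hσ
        refine eq_one_of_trivial ρ hexp hH h P
          (fun u hu => congrArg (fun f : AddMonoid.End P => ((f ⟨u, hu⟩ : P) : A)) hP1)
          fun a w hw => ?_
        rw [map_sub, AddMonoidHom.sub_apply]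
        conv_lhs => arg 1; rw [← apply_inv_self ρ h w, hinv]
        rw [show ρ h⁻¹ w = w by rw [← hWfix w hw, inv_apply_self, hWfix w hw], sub_self]
      · show Small (ξ ^ (N / p)) ((Nat.card (rangeSub (σW h)) : ℂ) * g h)
        rw [hj]
        exact (Small.natCast_of_dvd hζ (dvd_pow_self p (Nat.succ_ne_zero j))).mul_right
          (hg.isIntegral hR h)
    · obtain ⟨n, hn, hle⟩ := hgn h
      refine ⟨Nat.card (rangeSub (σW h)) * Nat.card (rangeSub (σW h)) * n, ?_, ?_⟩
      · rw [map_mul, Complex.conj_natCast]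
        push_cast
        rw [← hn]
        ring
      · have hW'le : Nat.card (rangeSub (σW h)) ≤
            Nat.card (rangeSub (restr (restr ρ P hP) W' hW' h)) := by
          refine Nat.card_le_card_of_injective (fun x =>
            ⟨⟨⟨((x : W) : A), hWP (x : W).2⟩, AddSubgroup.mem_addSubgroupOf.2 (x : W).2⟩, ?_⟩)
            fun x y e => ?_
          · obtain ⟨w, hw⟩ := mem_rangeSub.1 x.2
            exact mem_rangeSub.2 ⟨⟨⟨w.1, hWP w.2⟩, AddSubgroup.mem_addSubgroupOf.2 w.2⟩,
              Subtype.ext (Subtype.ext (congrArg (fun z : W => (z : A)) hw))⟩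
          · exact Subtype.ext (Subtype.ext (congrArg (fun z => (((z.1 : W') : P) : A)) e))
        have hPle := card_rangeSub_filtration W' (restr ρ P hP h)
          (restr (restr ρ P hP) W' hW' h) (σ h) (fun _ => rfl) fun _ => rfl
        have hAle := card_rangeSub_filtration P (ρ h) (restr ρ P hP h) (τ h) (fun _ => rfl)
          fun _ => rfl
        calc Nat.card (rangeSub (σW h)) * Nat.card (rangeSub (σW h)) * n
            = Nat.card (rangeSub (σW h)) * n * Nat.card (rangeSub (σW h)) := by ring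
          _ ≤ Nat.card (rangeSub (restr ρ P hP h)) * Nat.card (rangeSub (τ h)) :=
              Nat.mul_le_mul ((Nat.mul_le_mul hW'le hle).trans hPle) (hpair h)
          _ ≤ _ := hAle

end Recursion

end CfsgLib.DegreeTools.KGV
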