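import Cfsg.Agent.Lib.DegreeTools.KGV.Gauss
import Cfsg.Agent.Lib.DegreeTools.Eigen
import Cfsg.Agent.Lib.CharDeep.PermChar
import Cfsg.Agent.Lib.Char.Induced
import Mathlib.FieldTheory.Finiteness

/-!
# Inverting permutation characters in coprime characteristic
-/

set_option autoImplicit false

namespace CfsgLib.DegreeTools.KGV

open CfsgLib CfsgLib.Char
open scoped Classical ComplexConjugate

variable {H : Type*} [Group H] [Fintype H] {p N : ℕ} {ξ : ℂ}

/-- What the bound needs from a virtual character, for an arbitrary group. -/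
def GoodFor (p N : ℕ) (ξ : ℂ) {A : Type*} [AddCommGroup A] (ρ : H →* AddMonoid.End A)
    (g : H → ℂ) : Prop :=
  InSpan (Algebra.adjoin ℤ ({ξ} : Set ℂ)) g ∧ (g 1 = 1 ∨ g 1 = -1) ∧
    (∀ h, ρ h ≠ 1 → Small (ξ ^ (N / p)) (g h)) ∧
    ∀ h, ∃ n : ℕ, g h * conj (g h) = n ∧ n ≤ Nat.card (rangeSub (ρ h))

namespace InSpan

variable {R : Subalgebra ℤ ℂ} {f : H → ℂ}

theorem const {a : ℂ} (ha : a ∈ R) : InSpan R (fun _ : H => a) := by
  simpa using smul ha (of_hom (R := R) (1 : H →* ℂˣ))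

theorem apply_mem (hR : ∀ (φ : Cfsg.IrrCharacter H) h, (φ : H → ℂ) h ∈ R) (hf : InSpan R f)
    (h : H) : f h ∈ R := by
  obtain ⟨c, hc, e⟩ := hf
  rw [e]
  exact R.sum_mem fun φ _ => R.mul_mem (hc φ) (hR φ h)

/-- A function with values in `R`, a `p`-power multiple of which is in the span, is in the span. -/
theorem of_pow_mul (hp : p.Prime) (hH : ¬ p ∣ Nat.card H)
    (hR : ∀ (φ : Cfsg.IrrCharacter H) h, (φ : H → ℂ) h ∈ R) (hf : ∀ h, f h ∈ R) (s : ℕ)
    (hs : InSpan R (fun h => (p : ℂ) ^ s * f h)) : InSpan R f := by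
  obtain ⟨c, hc, e⟩ := hs
  have hp0 : (p : ℂ) ^ s ≠ 0 := pow_ne_zero _ (Nat.cast_ne_zero.2 hp.ne_zero)
  refine ⟨fun φ => c φ / (p : ℂ) ^ s, fun φ => ?_, fun h => ?_⟩
  · have hci : Cfsg.classInner f (φ : H → ℂ) = c φ / (p : ℂ) ^ s := by
      rw [← classInner_expand e φ, eq_div_iff hp0, mul_comm, ← classInner_smul_left]
      rfl
    have h1 : (Nat.card H : ℂ) * (c φ / (p : ℂ) ^ s) ∈ R := by
      rw [← hci, Cfsg.classInner, ← mul_assoc, mul_inv_cancel₀ card_ne_zero, one_mul]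
      refine R.sum_mem fun h _ => R.mul_mem (hf h) ?_
      rw [← IsCharacter.apply_inv (isCharacter_irr φ)]
      exact hR φ _
    have h2 : ((p ^ s : ℕ) : ℂ) * (c φ / (p : ℂ) ^ s) ∈ R := by
      push_cast
      rw [mul_div_cancel₀ _ hp0]
      exact hc φ
    obtain ⟨a, b, hab⟩ := Nat.Coprime.isCoprime
      (Nat.Coprime.pow_left s ((hp.coprime_iff_not_dvd).2 hH))
    have h3 : c φ / (p : ℂ) ^ s = (a : ℂ) * (((p ^ s : ℕ) : ℂ) * (c φ / (p : ℂ) ^ s))
        + (b : ℂ) * ((Nat.card H : ℂ) * (c φ / (p : ℂ) ^ s)) := by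
      have := congrArg (fun z : ℤ => (z : ℂ)) hab
      push_cast at this ⊢
      linear_combination (-(c φ / (p : ℂ) ^ s)) * this
    show c φ / (p : ℂ) ^ s ∈ R
    rw [h3]
    exact R.add_mem (R.mul_mem (intCast_mem R a) h2) (R.mul_mem (intCast_mem R b) h1)
  · show f h = _
    rw [Finset.sum_congr rfl fun φ _ => div_mul_eq_mul_div (c φ) _ ((φ : H → ℂ) h),
      ← Finset.sum_div, ← e, mul_div_cancel_left₀ _ hp0]

/-- If the values of a span element lie in a finite set, its inverse is in the span up to a factor. -/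
theorem exists_mul_sub {π : H → ℂ} (hπ : InSpan R π) (cs : Finset ℂ) (hcs : ∀ c ∈ cs, c ∈ R) :
    ∃ q : H → ℂ, InSpan R q ∧ ∀ h, ∏ c ∈ cs, (π h - c) = π h * q h + ∏ c ∈ cs, (-c) := by
  induction cs using Finset.induction with
  | empty => exact ⟨fun _ => 0, zero, fun h => by simp⟩
  | @insert a t ha ih =>
    obtain ⟨q, hq, e⟩ := ih fun c hc => hcs c (Finset.mem_insert_of_mem hc)
    have haR := hcs a (Finset.mem_insert_self a t)
    have hK : ∏ c ∈ t, (-c) ∈ R :=
      R.prod_mem fun c hc => R.neg_mem (hcs c (Finset.mem_insert_of_mem hc))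
    refine ⟨fun h => q h * (π h + -a) + ∏ c ∈ t, (-c), (hq.mul (hπ.add (const (R.neg_mem haR)))).add
      (const hK), fun h => ?_⟩
    rw [Finset.prod_insert ha, Finset.prod_insert ha, e]
    ring

/-- If the values of a span element are powers of `p`, some `p`-power over it is in the span. -/
theorem exists_pow_div {π : H → ℂ} (hπ : InSpan R π) (m : ℕ)
    (hval : ∀ h, ∃ j ≤ m, π h = (p : ℂ) ^ j) :
    ∃ (q : H → ℂ) (s : ℕ), InSpan R q ∧ ∀ h, π h * q h = (p : ℂ) ^ s := by
  set cs := (Finset.range (m + 1)).image fun j => (p : ℂ) ^ j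
  obtain ⟨q, hq, e⟩ := exists_mul_sub hπ cs (fun c hc => by
    obtain ⟨j, -, rfl⟩ := Finset.mem_image.1 hc
    exact R.pow_mem (natCast_mem R p) j)
  obtain ⟨s, hs⟩ : ∃ s, ∏ c ∈ cs, (-c) = (-1) ^ cs.card * (p : ℂ) ^ s := by
    rw [Finset.prod_neg]
    refine Finset.prod_induction (fun c => c) (fun x => ∃ s, (-1 : ℂ) ^ cs.card * x
      = (-1) ^ cs.card * (p : ℂ) ^ s) ?_ ⟨0, by simp⟩ ?_
    · rintro x y ⟨s, hs⟩ ⟨t, ht⟩
      have hne : (-1 : ℂ) ^ cs.card ≠ 0 := pow_ne_zero _ (by norm_num)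
      exact ⟨s + t, by rw [mul_left_cancel₀ hne hs, mul_left_cancel₀ hne ht, pow_add]⟩
    · intro c hc
      obtain ⟨j, -, rfl⟩ := Finset.mem_image.1 hc
      exact ⟨j, rfl⟩
  refine ⟨fun h => -(-1 : ℂ) ^ cs.card * q h, s,
    smul (R.neg_mem (R.pow_mem (R.neg_mem R.one_mem) _)) hq, fun h => ?_⟩
  have h0 : ∏ c ∈ cs, (π h - c) = 0 := by
    obtain ⟨j, hj, hj'⟩ := hval h
    exact Finset.prod_eq_zero (Finset.mem_image.2 ⟨j, Finset.mem_range.2 (by omega), rfl⟩)
      (sub_eq_zero.2 hj')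
  have h1 := e h
  rw [h0, hs] at h1
  have hsq : ((-1 : ℂ) ^ cs.card) * (-1) ^ cs.card = 1 := by rw [← mul_pow]; norm_num
  linear_combination ((-1 : ℂ) ^ cs.card) * h1 + (p : ℂ) ^ s * hsq

end InSpan

/-- Character values are combinations of roots of unity of order dividing the group order. -/
theorem irr_mem_adjoin [hp : Fact p.Prime] (hξ : IsPrimitiveRoot ξ N) (hN : 0 < N)
    (hHN : Nat.card H ∣ N) (φ : Cfsg.IrrCharacter H) (h : H) :
    (φ : H → ℂ) h ∈ Algebra.adjoin ℤ ({ξ} : Set ℂ) := by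
  obtain ⟨n, ρ, -, hρ⟩ := φ.2
  have hω : IsPrimitiveRoot (ξ ^ (N / Nat.card H)) (Nat.card H) :=
    hξ.pow hN (Nat.div_mul_cancel hHN).symm
  have := Eigen.char_pow_eq_sum ρ h hω Nat.card_pos.ne' pow_card_eq_one' 1
  rw [pow_one] at this
  rw [← hρ, this]
  exact Subalgebra.sum_mem _ fun k _ => Subalgebra.mul_mem _ (natCast_mem _ _)
    (Subalgebra.pow_mem _ (Subalgebra.pow_mem _ (Algebra.self_mem_adjoin_singleton ℤ ξ) _) _)

section Fixed

variable {A : Type*} [AddCommGroup A] [Finite A] (ρ : H →* AddMonoid.End A)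

/-- The fixed subgroup of an endomorphism. -/
def fixSub (f : AddMonoid.End A) : AddSubgroup A :=
  AddMonoidHom.ker ((f - 1 : AddMonoid.End A) : A →+ A)

omit [Finite A] in
theorem mem_fixSub {f : AddMonoid.End A} {x : A} : x ∈ fixSub f ↔ f x = x :=
  sub_eq_zero

omit [Finite A] in
theorem mem_rangeSub {f : AddMonoid.End A} {x : A} : x ∈ rangeSub f ↔ ∃ y, f y - y = x := Iff.rfl

omit [Finite A] in
theorem card_fix_mul_range (f : AddMonoid.End A) :
    Nat.card (fixSub f) * Nat.card (rangeSub f) = Nat.card A := by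
  have h := AddSubgroup.index_ker ((f - 1 : AddMonoid.End A) : A →+ A)
  exact (congrArg (Nat.card (fixSub f) * ·) h.symm).trans (AddSubgroup.card_mul_index _)

omit [Fintype H] [Finite A] in
/-- A coprime operator has trivial fixed points on its commutator. -/
theorem eq_zero_of_fix_of_range [Finite H] (hexp : ∀ a : A, p • a = 0) (hp : p.Prime)
    (hH : ¬ p ∣ Nat.card H) (h : H) {x : A} (h1 : x ∈ fixSub (ρ h)) (h2 : x ∈ rangeSub (ρ h)) :
    x = 0 := by
  obtain ⟨y, hy⟩ := mem_rangeSub.1 h2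
  rw [mem_fixSub] at h1
  have hit : ∀ k : ℕ, ρ (h ^ k) y = y + k • x := by
    intro k
    induction k with
    | zero => simp
    | succ k ih =>
      rw [pow_succ', map_mul, AddMonoid.End.coe_mul, Function.comp_apply, ih, map_add, map_nsmul,
        h1, succ_nsmul, ← hy]
      abel
  have h3 := hit (Nat.card H)
  rw [pow_card_eq_one', map_one, AddMonoid.End.coe_one, id_eq, left_eq_add] at h3
  obtain ⟨a, b, hab⟩ := Nat.Coprime.isCoprime ((hp.coprime_iff_not_dvd).2 hH)
  rw [← one_zsmul x, ← hab, add_zsmul, mul_zsmul, mul_zsmul, natCast_zsmul, natCast_zsmul, h3,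
    hexp, smul_zero, smul_zero, add_zero]

omit [Fintype H] in
/-- `A` is the sum of fixed points and commutator of a coprime operator. -/
theorem exists_fix_add_range [Finite H] (hexp : ∀ a : A, p • a = 0) (hp : p.Prime)
    (hH : ¬ p ∣ Nat.card H) (h : H) :
    Function.Bijective fun x : fixSub (ρ h) × rangeSub (ρ h) => (x.1 : A) + x.2 := by
  refine (Nat.bijective_iff_injective_and_card _).2 ⟨?_, ?_⟩
  · rintro ⟨a, b⟩ ⟨a', b'⟩ e
    have e' : (a : A) - a' = b' - b := by
      have e2 : (a : A) + b = a' + b' := e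
      rw [sub_eq_iff_eq_add, sub_add_eq_add_sub, eq_sub_iff_add_eq, e2, add_comm]
    have h0 := eq_zero_of_fix_of_range ρ hexp hp hH h
      ((fixSub (ρ h)).sub_mem a.2 a'.2) (e' ▸ (rangeSub (ρ h)).sub_mem b'.2 b.2)
    have h0' : (b' : A) - b = 0 := e' ▸ h0
    exact Prod.ext (Subtype.ext (sub_eq_zero.1 h0)) (Subtype.ext (sub_eq_zero.1 h0').symm)
  · rw [Nat.card_prod, card_fix_mul_range]

/-- Invariantly weighted fixed-point counts are in the span. -/
theorem inSpan_fix_sum [Fintype A] {R : Subalgebra ℤ ℂ} (a : A → ℂ) (ha : ∀ x, a x ∈ R)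
    (hinv : ∀ h x, a (ρ h x) = a x) :
    InSpan R (fun h => ∑ x : A, if ρ h x = x then a x else 0) := by
  let : MulAction H A :=
    { smul := fun h x => ρ h x
      one_smul := fun x => by show ρ 1 x = x; rw [map_one]; rfl
      mul_smul := fun g h x => by show ρ (g * h) x = ρ g (ρ h x); rw [map_mul]; rfl }
  let rep : Quotient (MulAction.orbitRel H A) → A := Quotient.out
  have hrep : ∀ ω, Quotient.mk'' (rep ω) = ω := Quotient.out_eq
  have := InSpan.sum (R := R) (Finset.univ : Finset (Quotient (MulAction.orbitRel H A))) fun ω _ =>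
    InSpan.smul (ha (rep ω)) (InSpan.of_isCharacter (IsCharacter.indFun
      (MulAction.stabilizer H (rep ω)) isCharacter_one))
  convert this using 2 with h
  simp only [CharDeep.PermChar.indFun_one_fun_eq]
  -- sum orbit by orbit
  rw [← Finset.sum_fiberwise_of_maps_to (g := fun x : A => (Quotient.mk'' x :
    Quotient (MulAction.orbitRel H A))) (fun x _ => Finset.mem_univ _)]
  refine Finset.sum_congr rfl fun ω _ => ?_
  have hsub : ∀ x ∈ Finset.univ.filter (fun x : A => (Quotient.mk'' x :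
      Quotient (MulAction.orbitRel H A)) = ω), a x = a (rep ω) := fun x hx => by
    obtain ⟨g, hg⟩ := (Quotient.exact' ((Finset.mem_filter.1 hx).2.trans (hrep ω).symm) :
      x ∈ MulAction.orbit H (rep ω))
    rw [← hg]
    exact hinv g _
  rw [Finset.sum_congr rfl fun x hx => show (if ρ h x = x then a x else 0)
    = if ρ h x = x then a (rep ω) else 0 by rw [hsub x hx], ← Finset.sum_filter,
    Finset.sum_const, nsmul_eq_mul, mul_comm]
  congr 1
  rw [Nat.cast_inj, CharDeep.PermChar.fixCount, Finset.filter_filter]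
  rw [← Fintype.card_subtype, ← Nat.card_eq_fintype_card]
  let f : {q : H ⧸ MulAction.stabilizer H (rep ω) // h • q = q} →
      {x : A // (Quotient.mk'' x : Quotient (MulAction.orbitRel H A)) = ω ∧ ρ h x = x} := fun q =>
    ⟨MulAction.ofQuotientStabilizer H (rep ω) q.1, by
      obtain ⟨g, hg⟩ := QuotientGroup.mk_surjective q.1
      refine ⟨(Quotient.sound' (show _ ∈ MulAction.orbit H (rep ω) from
        ⟨g, by rw [← hg, MulAction.ofQuotientStabilizer_mk]⟩)).trans (hrep ω), ?_⟩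
      show h • MulAction.ofQuotientStabilizer H (rep ω) q.1 = _
      rw [← MulAction.ofQuotientStabilizer_smul, q.2]⟩
  refine (Nat.card_congr (Equiv.ofBijective f ⟨fun q q' e => Subtype.ext
    (MulAction.injective_ofQuotientStabilizer H (rep ω) (congrArg Subtype.val e)), fun x => ?_⟩)).symm
  obtain ⟨g, hg⟩ := (Quotient.exact' (x.2.1.trans (hrep ω).symm) :
    x.1 ∈ MulAction.orbit H (rep ω))
  refine ⟨⟨((g : H) : H ⧸ _), MulAction.injective_ofQuotientStabilizer H (rep ω) ?_⟩, Subtype.ext ?_⟩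
  · rw [MulAction.ofQuotientStabilizer_smul, MulAction.ofQuotientStabilizer_mk]
    show ρ h (g • rep ω) = g • rep ω
    simp only at hg
    rw [hg]
    exact x.2.2
  · exact hg

omit [Finite A] in
theorem sum_fix_eq [Fintype A] (f : AddMonoid.End A) (a : A → ℂ) :
    ∑ x : A, (if f x = x then a x else 0) = ∑ x : fixSub f, a x := by
  rw [← Finset.sum_filter]
  exact Finset.sum_subtype _ (fun x => by simp [mem_fixSub]) a

theorem inSpan_card_fix {R : Subalgebra ℤ ℂ} :
    InSpan R (fun h => (Nat.card (fixSub (ρ h)) : ℂ)) := by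
  have := Fintype.ofFinite A
  have h := inSpan_fix_sum ρ (R := R) (fun _ => 1) (fun _ => R.one_mem) fun _ _ => rfl
  convert h using 2 with g
  rw [sum_fix_eq, Finset.sum_const, nsmul_eq_mul, mul_one, Finset.card_univ,
    Nat.card_eq_fintype_card]

theorem card_eq_pow (hexp : ∀ a : A, p • a = 0) [hp : Fact p.Prime] :
    ∃ j, Nat.card A = p ^ j := by
  have hP : IsPGroup p (Multiplicative A) := fun a =>
    ⟨1, by rw [pow_one]; exact Multiplicative.toAdd.injective (hexp a.toAdd)⟩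
  obtain ⟨j, hj⟩ := hP.exists_card_eq
  exact ⟨j, hj⟩

/-- The inverse of the fixed-point character, up to a `p`-power factor. -/
theorem exists_fix_inv {R : Subalgebra ℤ ℂ} (hexp : ∀ a : A, p • a = 0) [hp : Fact p.Prime] :
    ∃ (q : H → ℂ) (s : ℕ), InSpan R q ∧
      ∀ h, (Nat.card (fixSub (ρ h)) : ℂ) * q h = (p : ℂ) ^ s := by
  obtain ⟨m, hm⟩ := card_eq_pow hexp
  refine InSpan.exists_pow_div (inSpan_card_fix ρ) m fun h => ?_
  have hdvd : Nat.card (fixSub (ρ h)) ∣ p ^ m := hm ▸ AddSubgroup.card_addSubgroup_dvd_card _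
  obtain ⟨j, hj, hj'⟩ := (Nat.dvd_prime_pow hp.out).1 hdvd
  exact ⟨j, hj, by rw [hj']; push_cast; rfl⟩

omit [Fintype H] [Finite A] in
/-- Images of `f - 1` multiply along an invariant subgroup. -/
theorem card_rangeSub_filtration [Finite A] (W : AddSubgroup A) (f : AddMonoid.End A)
    (g : AddMonoid.End W) (t : AddMonoid.End (A ⧸ W)) (hg : ∀ w : W, ((g w : W) : A) = f w)
    (ht : ∀ a : A, t (a : A ⧸ W) = ((f a : A) : A ⧸ W)) :
    Nat.card (rangeSub g) * Nat.card (rangeSub t) ≤ Nat.card (rangeSub f) := by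
  let π : rangeSub f →+ A ⧸ W := (QuotientAddGroup.mk' W).comp (rangeSub f).subtype
  have hK : Nat.card (rangeSub g) ≤ Nat.card π.ker := by
    refine Nat.card_le_card_of_injective (fun x => ⟨⟨((x : W) : A), by
      obtain ⟨w, hw⟩ := mem_rangeSub.1 x.2
      exact mem_rangeSub.2 ⟨w, by rw [← hg, ← hw, AddSubgroup.coe_sub]⟩⟩,
        (QuotientAddGroup.eq_zero_iff _).2 x.1.2⟩) fun x y e => ?_
    exact Subtype.ext (Subtype.ext (congrArg (fun z : π.ker => ((z : rangeSub f) : A)) e))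
  have hI : Nat.card (rangeSub t) ≤ Nat.card π.range := by
    refine Nat.card_le_card_of_injective (fun x => ⟨x.1, ?_⟩) fun x y e =>
      Subtype.ext (congrArg (fun z : π.range => (z : A ⧸ W)) e)
    obtain ⟨z, hz⟩ := mem_rangeSub.1 x.2
    induction z using QuotientAddGroup.induction_on with
    | H a =>
      refine ⟨⟨f a - a, mem_rangeSub.2 ⟨a, rfl⟩⟩, ?_⟩
      rw [← hz, ht]
      rfl
  calc Nat.card (rangeSub g) * Nat.card (rangeSub t)
      ≤ Nat.card π.ker * Nat.card π.range := Nat.mul_le_mul hK hI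
    _ = Nat.card (rangeSub f) := by rw [← AddSubgroup.index_ker, AddSubgroup.card_mul_index]

end Fixed

/-- `p` is a multiple of `ζ - 1`. -/
theorem Small.natCast_of_dvd [hp : Fact p.Prime] {ζ : ℂ} (hζ : IsPrimitiveRoot ζ p) {n : ℕ}
    (h : p ∣ n) : Small ζ (n : ℂ) := by
  obtain ⟨k, rfl⟩ := h
  have h0 := hζ.geom_sum_eq_zero hp.out.one_lt
  have hs : Small ζ (∑ i ∈ Finset.range p, (ζ ^ i - 1)) := Small.sum _ fun i _ =>
    Small.root_sub_one hζ (by rw [← pow_mul, mul_comm, pow_mul, hζ.pow_eq_one, one_pow])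
  rw [Finset.sum_sub_distrib, h0, zero_sub, Finset.sum_const, Finset.card_range, nsmul_eq_mul,
    mul_one] at hs
  have := (hs.neg).mul_right (CharDeep.Glauberman.isIntegral_natCast k)
  rw [neg_neg] at this
  push_cast
  exact this

/-- An additive character sum over a finite set is `Small` when the set size is divisible by `p`. -/
theorem Small.sum_roots [hp : Fact p.Prime] {ζ : ℂ} (hζ : IsPrimitiveRoot ζ p) {ι : Type*}
    (s : Finset ι) (hs : p ∣ s.card) {f : ι → ℂ} (hf : ∀ i ∈ s, f i ^ p = 1) :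
    Small ζ (∑ i ∈ s, f i) := by
  have e : ∑ i ∈ s, f i = ∑ i ∈ s, (f i - 1) + (s.card : ℂ) := by
    rw [Finset.sum_sub_distrib, Finset.sum_const, nsmul_eq_mul, mul_one, sub_add_cancel]
  rw [e]
  exact (Small.sum _ fun i hi => Small.root_sub_one hζ (hf i hi)).add (Small.natCast_of_dvd hζ hs)

end CfsgLib.DegreeTools.KGV
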