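import Cfsg.Agent.Lib.DegreeTools.KGV.Orth
import Cfsg.Agent.Lib.Blocks.AlperinDade
import Cfsg.Agent.Lib.CharDeep.CentralTrick
import Cfsg.Agent.S0867
import Mathlib.GroupTheory.SemidirectProduct

/-!
# Weil characters of coprime symplectic groups
-/

set_option autoImplicit false

namespace CfsgLib.DegreeTools.KGV

open CfsgLib CfsgLib.Char
open scoped Classical ComplexConjugate

variable {p : ℕ} [hp : Fact p.Prime]

/-- The Heisenberg group of a bilinear map. -/
@[ext]
structure Heis {A : Type*} [AddCommGroup A] (c : A →+ A →+ ZMod p) where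
  v : A
  z : ZMod p

namespace Heis

variable {A : Type*} [AddCommGroup A] (c : A →+ A →+ ZMod p)

instance : Group (Heis c) where
  mul x y := ⟨x.v + y.v, x.z + y.z + c x.v y.v⟩
  one := ⟨0, 0⟩
  inv x := ⟨-x.v, -x.z + c x.v x.v⟩
  mul_assoc x y w := Heis.ext (add_assoc _ _ _) (by
    show x.z + y.z + c x.v y.v + w.z + c (x.v + y.v) w.v
      = x.z + (y.z + w.z + c y.v w.v) + c x.v (y.v + w.v)
    simp only [map_add, AddMonoidHom.add_apply]
    ring)
  one_mul x := Heis.ext (zero_add _) (by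
    show 0 + x.z + c 0 x.v = x.z
    simp)
  mul_one x := Heis.ext (add_zero _) (by
    show x.z + 0 + c x.v 0 = x.z
    simp)
  inv_mul_cancel x := Heis.ext (neg_add_cancel _) (by
    show -x.z + c x.v x.v + x.z + c (-x.v) x.v = 0
    rw [map_neg, AddMonoidHom.neg_apply]
    ring)

theorem mul_v (x y : Heis c) : (x * y).v = x.v + y.v := rfl
theorem mul_z (x y : Heis c) : (x * y).z = x.z + y.z + c x.v y.v := rfl
theorem inv_v (x : Heis c) : x⁻¹.v = -x.v := rfl
theorem inv_z (x : Heis c) : x⁻¹.z = -x.z + c x.v x.v := rfl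
theorem one_v : (1 : Heis c).v = 0 := rfl
theorem one_z : (1 : Heis c).z = 0 := rfl

/-- Heisenberg groups as pairs. -/
def equivProd : Heis c ≃ A × ZMod p where
  toFun x := (x.v, x.z)
  invFun x := ⟨x.1, x.2⟩

instance [Finite A] : Finite (Heis c) := Finite.of_equiv _ (equivProd c).symm

noncomputable instance [Finite A] : Fintype (Heis c) := Fintype.ofFinite _

theorem card_eq : Nat.card (Heis c) = Nat.card A * p := by
  rw [Nat.card_congr (equivProd c), Nat.card_prod, Nat.card_zmod]

theorem conj_eq (w : A) (x : Heis c) :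
    (⟨w, 0⟩ : Heis c) * x * (⟨w, 0⟩ : Heis c)⁻¹
      = ⟨0, c w x.v - c x.v w⟩ * x := by
  refine Heis.ext ?_ ?_
  · simp only [mul_v, inv_v]
    abel
  · simp only [mul_v, mul_z, inv_v, inv_z, map_add, map_neg, map_zero, AddMonoidHom.add_apply,
      AddMonoidHom.zero_apply]
    ring

theorem central_commute (a : ZMod p) (x : Heis c) :
    (⟨0, a⟩ : Heis c) * x = x * ⟨0, a⟩ := by
  refine Heis.ext ?_ ?_
  · simp only [mul_v]; abel
  · simp only [mul_z, map_zero, AddMonoidHom.zero_apply]; ring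

theorem center_eq_pow (a : ZMod p) : (⟨0, a⟩ : Heis c) = (⟨0, 1⟩ : Heis c) ^ a.val := by
  have h : ∀ k : ℕ, (⟨0, 1⟩ : Heis c) ^ k = ⟨0, (k : ZMod p)⟩ := by
    intro k
    induction k with
    | zero => exact Heis.ext rfl (by simp [one_z])
    | succ k ih =>
      rw [pow_succ, ih]
      exact Heis.ext (by simp [mul_v]) (by simp [mul_z])
  rw [h, ZMod.natCast_zmod_val]

theorem decomp (x : Heis c) : x = ⟨0, x.z⟩ * ⟨x.v, 0⟩ :=
  Heis.ext (by simp [mul_v]) (by simp [mul_z])

/-- An irreducible character with nontrivial central character. -/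
theorem exists_irr [Finite A] :
    ∃ θ : Cfsg.IrrCharacter (Heis c), ∃ ω : ℂ, IsPrimitiveRoot ω p ∧
      ∀ x, (θ : Heis c → ℂ) (⟨0, 1⟩ * x) = ω * (θ : Heis c → ℂ) x := by
  obtain ⟨θ, hθ⟩ : ∃ θ : Cfsg.IrrCharacter (Heis c),
      (θ : Heis c → ℂ) ⟨0, 1⟩ ≠ (θ : Heis c → ℂ) 1 := by
    by_contra hc
    push Not at hc
    have h := congrArg Heis.z (eq_one_of_forall_irr hc)
    simp [one_z] at h
  obtain ⟨ω, -, hω⟩ := DegreeBound.apply_central_mul θ.2 (z := (⟨0, 1⟩ : Heis c))
    (Subgroup.mem_center_iff.2 fun x => (central_commute c 1 x).symm)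
  refine ⟨θ, ω, ?_, hω⟩
  have hpow : ∀ k : ℕ, (θ : Heis c → ℂ) ((⟨0, 1⟩ : Heis c) ^ k) = ω ^ k * (θ : Heis c → ℂ) 1 := by
    intro k
    induction k with
    | zero => simp
    | succ k ih => rw [pow_succ', hω, ih, pow_succ', mul_assoc]
  have h1 : (⟨0, 1⟩ : Heis c) ^ p = 1 := by
    rw [show (1 : Heis c) = ⟨0, 0⟩ from rfl]
    have := center_eq_pow c (0 : ZMod p)
    have hk : ∀ k : ℕ, (⟨0, 1⟩ : Heis c) ^ k = ⟨0, (k : ZMod p)⟩ := by
      intro k
      induction k with
      | zero => exact Heis.ext rfl (by simp [one_z])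
      | succ k ih =>
        rw [pow_succ, ih]
        exact Heis.ext (by simp [mul_v]) (by simp [mul_z])
    rw [hk, ZMod.natCast_self]
  have hωp : ω ^ p = 1 := by
    have := hpow p
    rw [h1] at this
    exact (mul_eq_right₀ (IsIrrCharacter.apply_one_ne_zero θ.2)).1 this.symm
  have hω1 : ω ≠ 1 := fun h => hθ (by
    have := hω 1
    rwa [mul_one, h, one_mul] at this)
  have := orderOf_eq_prime hωp hω1
  exact this ▸ IsPrimitiveRoot.orderOf ω

variable {G : Type*} [Group G]

/-- The central character governs translations by central elements. -/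
theorem apply_center {F : G → ℂ} (e : Heis c →* G) {ω : ℂ} (hω : IsPrimitiveRoot ω p)
    (h : ∀ g, F (e ⟨0, 1⟩ * g) = ω * F g) (a : ZMod p) (g : G) :
    F (e ⟨0, a⟩ * g) = chi hω a * F g := by
  rw [center_eq_pow, map_pow, chi, AddChar.zmodChar_apply]
  generalize a.val = k
  induction k with
  | zero => simp
  | succ k ih => rw [pow_succ', mul_assoc, h, ih, pow_succ', mul_assoc]

/-- Vanishing when a commutator is a nontrivial central element. -/
theorem apply_eq_zero {F : G → ℂ} (e : Heis c →* G) {ω : ℂ} (hω : IsPrimitiveRoot ω p)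
    (h : ∀ g, F (e ⟨0, 1⟩ * g) = ω * F g) (hF : ∀ y x : G, F (y * x * y⁻¹) = F x)
    {x y : G} {a : ZMod p} (ha : a ≠ 0) (hy : y * x * y⁻¹ = e ⟨0, a⟩ * x) : F x = 0 := by
  have h1 := hF y x
  rw [hy, apply_center c e hω h] at h1
  by_contra h0
  exact ha ((chi_eq_one_iff hω a).1 ((mul_eq_right₀ h0).1 h1))

end Heis

open Heis in
/-- An invariant bilinear map with nondegenerate alternating part gives a good character. -/
theorem exists_good_weil {H : Type*} [Group H] [Fintype H] {N : ℕ} {ξ : ℂ}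
    {A : Type*} [AddCommGroup A] [Finite A] (hN : 0 < N) (hpN : p ∣ N) (hξ : IsPrimitiveRoot ξ N)
    (hHN : Nat.card H ∣ N) (hH : ¬ p ∣ Nat.card H) (ρ : H →* AddMonoid.End A)
    (hexp : ∀ a : A, p • a = 0) (c : A →+ A →+ ZMod p)
    (hinv : ∀ h x y, c (ρ h x) (ρ h y) = c x y)
    (hnd : ∀ x, (∀ y, c x y - c y x = 0) → x = 0) :
    ∃ g : H → ℂ, GoodFor p N ξ ρ g := by
  have := Fintype.ofFinite A
  set R := Algebra.adjoin ℤ ({ξ} : Set ℂ)
  set ζ := ξ ^ (N / p)
  have hζ : IsPrimitiveRoot ζ p := hξ.pow hN (Nat.div_mul_cancel hpN).symm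
  obtain ⟨θ, ω₁, hω₁, hθz⟩ := exists_irr c
  obtain ⟨dA, hdA, hdAdvd⟩ := IsIrrCharacter.apply_one_dvd_card θ.2
  have hθcl : ∀ y x : Heis c, (θ : Heis c → ℂ) (y * x * y⁻¹) = (θ : Heis c → ℂ) x :=
    fun y x => IsIrrCharacter.isClassFunction θ.2 x y
  have hθ0 : ∀ v : A, v ≠ 0 → ∀ a, (θ : Heis c → ℂ) ⟨v, a⟩ = 0 := by
    intro v hv a
    obtain ⟨w, hw⟩ : ∃ w, c v w - c w v ≠ 0 := by
      by_contra hc
      push Not at hc
      exact hv (hnd v hc)
    exact apply_eq_zero c (MonoidHom.id _) hω₁ hθz hθcl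
      (sub_ne_zero.2 (fun e => hw (sub_eq_zero.2 e.symm))) (conj_eq c w ⟨v, a⟩)
  have hθc : ∀ a : ZMod p, (θ : Heis c → ℂ) ⟨0, a⟩ = chi hω₁ a * (dA : ℂ) := fun a => by
    have := apply_center c (MonoidHom.id _) hω₁ hθz a 1
    rwa [MonoidHom.id_apply, mul_one, hdA] at this
  have hchi1 : ∀ a : ZMod p, chi hω₁ a * conj (chi hω₁ a) = 1 := fun a => by
    rw [chi_conj, ← AddChar.map_add_eq_mul, add_neg_cancel, AddChar.map_zero_eq_one]
  have hdA2 : dA * dA = Nat.card A := by
    have h := classInner_irr_self θ.2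
    rw [Cfsg.classInner, inv_mul_eq_iff_eq_mul₀ card_ne_zero, mul_one, Heis.card_eq] at h
    rw [← (equivProd c).symm.sum_comp, Fintype.sum_prod_type, Finset.sum_eq_single 0
      (fun v _ hv => Finset.sum_eq_zero fun a _ => by
        show (θ : Heis c → ℂ) ⟨v, a⟩ * _ = 0
        rw [hθ0 v hv, zero_mul]) (fun h => absurd (Finset.mem_univ _) h)] at h
    have h' : ∀ a : ZMod p, (θ : Heis c → ℂ) ((equivProd c).symm ((0 : A), a))
        * conj ((θ : Heis c → ℂ) ((equivProd c).symm ((0 : A), a))) = ((dA * dA : ℕ) : ℂ) := fun a => by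
      show (θ : Heis c → ℂ) ⟨0, a⟩ * conj ((θ : Heis c → ℂ) ⟨0, a⟩) = _
      rw [hθc, map_mul, Complex.conj_natCast, Nat.cast_mul]
      linear_combination ((dA : ℂ) * dA) * hchi1 a
    rw [Finset.sum_congr rfl fun a _ => h' a, Finset.sum_const, Finset.card_univ, ZMod.card,
      nsmul_eq_mul, ← Nat.cast_mul, Nat.cast_inj, mul_comm (Nat.card A)] at h
    exact Nat.eq_of_mul_eq_mul_left hp.out.pos h
  -- the semidirect product
  let φ : H →* MulAut (Heis c) :=
    { toFun := fun h =>
        { toFun := fun x => ⟨ρ h x.v, x.z⟩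
          invFun := fun x => ⟨ρ h⁻¹ x.v, x.z⟩
          left_inv := fun x => Heis.ext (by
            show ρ h⁻¹ (ρ h x.v) = x.v
            rw [← Function.comp_apply (f := ρ h⁻¹), ← AddMonoid.End.coe_mul, ← map_mul,
              inv_mul_cancel, map_one]
            rfl) rfl
          right_inv := fun x => Heis.ext (by
            show ρ h (ρ h⁻¹ x.v) = x.v
            rw [← Function.comp_apply (f := ρ h), ← AddMonoid.End.coe_mul, ← map_mul,
              mul_inv_cancel, map_one]
            rfl) rfl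
          map_mul' := fun x y => Heis.ext (map_add (ρ h) x.v y.v) (by
            show x.z + y.z + c x.v y.v = x.z + y.z + c (ρ h x.v) (ρ h y.v)
            rw [hinv]) }
      map_one' := MulEquiv.ext fun x => Heis.ext (by
        show ρ 1 x.v = x.v
        rw [map_one]; rfl) rfl
      map_mul' := fun g h => MulEquiv.ext fun x => Heis.ext (by
        show ρ (g * h) x.v = ρ g (ρ h x.v)
        rw [map_mul]; rfl) rfl }
  let S := SemidirectProduct (Heis c) H φ
  have : Finite S := Finite.of_equiv _ SemidirectProduct.equivProd.symm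
  have : Fintype S := Fintype.ofFinite _
  let il : Heis c →* S := SemidirectProduct.inl
  let ir : H →* S := SemidirectProduct.inr
  have hir : ∀ (h : H) (x : Heis c), ir h * il x = il (φ h x) * ir h := fun h x => by
    show SemidirectProduct.inr h * SemidirectProduct.inl x = SemidirectProduct.inl _ * _
    rw [SemidirectProduct.inl_aut, map_inv, inv_mul_cancel_right]
  set Nn : Subgroup S := il.range
  have : Nn.Normal := by
    rw [show Nn = (SemidirectProduct.rightHom (φ := φ)).ker from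
      SemidirectProduct.range_inl_eq_ker_rightHom]
    infer_instance
  let eN : Heis c ≃* Nn := MonoidHom.ofInjective SemidirectProduct.inl_injective
  have hϑ : Cfsg.IsIrrCharacter Nn ((θ : Heis c → ℂ) ∘ eN.symm) :=
    IsIrrCharacter.comp_equiv θ.2 eN.symm
  have heN : ∀ x, eN.symm ⟨il x, x, rfl⟩ = x := fun x => eN.symm_apply_apply x
  have hφθ : ∀ (h : H) (x : Heis c), (θ : Heis c → ℂ) (φ h x) = (θ : Heis c → ℂ) x := by
    intro h x
    by_cases hx : x.v = 0
    · refine congrArg (θ : Heis c → ℂ) (Heis.ext ?_ rfl)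
      show ρ h x.v = x.v
      rw [hx, map_zero]
    · rw [show x = ⟨x.v, x.z⟩ from rfl, hθ0 _ hx]
      refine hθ0 _ (fun h0 => hx ?_) _
      have h1 : ρ h⁻¹ (ρ h x.v) = 0 := by rw [show ρ h x.v = 0 from h0, map_zero]
      rwa [← Function.comp_apply (f := ρ h⁻¹), ← AddMonoid.End.coe_mul, ← map_mul,
        inv_mul_cancel, map_one] at h1
  have hNcard : Nat.card Nn = Nat.card A * p := by rw [← Nat.card_congr eN.toEquiv, Heis.card_eq]
  have hidxN : Nn.index = Nat.card H := by
    show (SemidirectProduct.inl (φ := φ)).range.index = _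
    rw [SemidirectProduct.range_inl_eq_ker_rightHom, Subgroup.index_ker,
      MonoidHom.range_eq_top_of_surjective _ SemidirectProduct.rightHom_surjective,
      Subgroup.card_top]
  obtain ⟨jA, hjA⟩ := card_eq_pow hexp
  have hdet : Cfsg.detOrder ((θ : Heis c → ℂ) ∘ eN.symm) ∣ Nat.card Nn := by
    obtain ⟨k, τ, hτi, hτ⟩ := hϑ
    have := hτi
    rw [← hτ, Cfsg.detOrder, CharDeep.DetExt.detChar_character τ, orderOf_dvd_iff_pow_eq_one]
    funext g
    rw [Pi.pow_apply, ← map_pow, ← map_pow, pow_card_eq_one', map_one, map_one]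
    rfl
  obtain ⟨χ, ⟨hχ, hres, -⟩, -⟩ := Cfsg.Agent.S0867.result Nn _ hϑ (fun g n => by
    obtain ⟨x, hx⟩ := n.2
    obtain ⟨e, u, rfl⟩ : ∃ e u, g = il e * ir u :=
      ⟨g.left, g.right, (SemidirectProduct.inl_left_mul_inr_right g).symm⟩
    have e1 : (il e * ir u * n * (il e * ir u)⁻¹ : S) = il (e * φ u x * e⁻¹) := by
      rw [← hx, mul_inv_rev, map_mul, map_mul, map_inv]
      simp only [← mul_assoc]
      rw [mul_assoc (il e) (ir _) (il x), hir, ← mul_assoc, mul_inv_cancel_right]
    have e2 : (⟨il e * ir u * n * (il e * ir u)⁻¹,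
        Subgroup.Normal.conj_mem inferInstance _ n.2 _⟩ : Nn)
        = ⟨il (e * φ u x * e⁻¹), _, rfl⟩ := Subtype.ext e1
    have e3 : n = ⟨il x, x, rfl⟩ := Subtype.ext hx.symm
    simp only [Function.comp_apply]
    rw [e2, e3, heN, heN, hθcl, hφθ]) dA (by rw [Function.comp_apply, map_one]; exact hdA) (by
    rw [hidxN]
    have hpp : Nat.Coprime (Nat.card H) (Nat.card Nn) := by
      rw [hNcard, hjA, ← pow_succ]
      exact Nat.Coprime.pow_right _ ((hp.out.coprime_iff_not_dvd.2 hH).symm)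
    have hd : dA ∣ Nat.card Nn := by rwa [← Nat.card_congr eN.toEquiv]
    exact Nat.Coprime.mul_right (hpp.coprime_dvd_right hdet) (hpp.coprime_dvd_right hd))
  have hχθ : ∀ x, χ (il x) = (θ : Heis c → ℂ) x := fun x => by
    rw [show χ (il x) = χ ((⟨il x, x, rfl⟩ : Nn) : S) from rfl, hres, Function.comp_apply, heN]
  have hχcl : ∀ y x : S, χ (y * x * y⁻¹) = χ x := fun y x => IsIrrCharacter.isClassFunction hχ x y
  have hχz : ∀ g : S, χ (il ⟨0, 1⟩ * g) = ω₁ * χ g := by
    obtain ⟨ω, -, hω⟩ := DegreeBound.apply_central_mul hχ (z := il ⟨0, 1⟩)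
      (Subgroup.mem_center_iff.2 fun g => by
        obtain ⟨e, u, rfl⟩ : ∃ e u, g = il e * ir u :=
          ⟨g.left, g.right, (SemidirectProduct.inl_left_mul_inr_right g).symm⟩
        rw [mul_assoc, hir, ← mul_assoc, ← mul_assoc, ← map_mul, ← map_mul]
        congr 2
        rw [central_commute]
        congr 1
        exact Heis.ext (by show ρ _ (0 : A) = 0; rw [map_zero]) rfl)
    have h1 := hω 1
    rw [mul_one, hχθ, show (θ : Heis c → ℂ) ⟨0, 1⟩ = ω₁ * (θ : Heis c → ℂ) 1 by
      have := hθz 1; rwa [mul_one] at this, show χ 1 = (θ : Heis c → ℂ) 1 by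
      rw [← hχθ, map_one]] at h1
    rw [mul_right_cancel₀ (IsIrrCharacter.apply_one_ne_zero θ.2) h1]
    exact hω
  -- the absolute values
  have hfix : ∀ h w, w ∈ fixSub (ρ h) → ∀ a, φ h ⟨w, a⟩ = ⟨w, a⟩ := fun h w hw a =>
    Heis.ext (mem_fixSub.1 hw) rfl
  have hbij := fun h => exists_fix_add_range ρ hexp hp.out hH h
  have horth : ∀ h, ∀ x ∈ fixSub (ρ h), ∀ r ∈ rangeSub (ρ h), c x r = 0 ∧ c r x = 0 := by
    intro h x hx r hr
    obtain ⟨y, rfl⟩ := mem_rangeSub.1 hr
    rw [map_sub, map_sub, AddMonoidHom.sub_apply, sub_eq_zero, sub_eq_zero]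
    constructor
    · conv_rhs => rw [← hinv h x y, mem_fixSub.1 hx]
    · conv_rhs => rw [← hinv h y x, mem_fixSub.1 hx]
  have hndC : ∀ h, ∀ x ∈ fixSub (ρ h), (∀ y ∈ fixSub (ρ h), c x y - c y x = 0) → x = 0 := by
    intro h x hx hy
    refine hnd x fun z => ?_
    obtain ⟨⟨u, r⟩, rfl⟩ := (hbij h).2 z
    have := horth h x hx r r.2
    simp only [map_add, AddMonoidHom.add_apply, this.1, this.2, add_zero]
    exact hy u u.2
  have habs : ∀ h, χ (ir h) * conj (χ (ir h)) = (Nat.card (fixSub (ρ h)) : ℂ) := by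
    intro h
    have hval : ∀ (v : A) (a : ZMod p), χ (il ⟨v, a⟩ * ir h) * conj (χ (il ⟨v, a⟩ * ir h))
        = if v ∈ rangeSub (ρ h) then χ (ir h) * conj (χ (ir h)) else 0 := by
      intro v a
      by_cases hv : v ∈ rangeSub (ρ h)
      · rw [if_pos hv]
        obtain ⟨w, hw⟩ := mem_rangeSub.1 hv
        obtain ⟨b, hb⟩ : ∃ b : ZMod p,
            il (⟨-w, 0⟩ : Heis c) * ir h * (il ⟨-w, 0⟩)⁻¹ = il ⟨0, b⟩ * (il ⟨v, a⟩ * ir h) := by
          have e0 : il (⟨-w, 0⟩ : Heis c) * ir h * (il ⟨-w, 0⟩)⁻¹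
              = il ((⟨-w, 0⟩ : Heis c) * φ h (⟨-w, 0⟩ : Heis c)⁻¹) * ir h := by
            rw [← map_inv, mul_assoc, hir, ← mul_assoc, ← map_mul]
          set y : Heis c := (⟨-w, 0⟩ : Heis c) * φ h (⟨-w, 0⟩ : Heis c)⁻¹ with hy
          refine ⟨y.z - a, ?_⟩
          rw [e0, ← mul_assoc, ← map_mul]
          congr 2
          have hyv : y.v = v := by
            show -w + ρ h (-(-w)) = v
            rw [neg_neg, ← hw]; abel
          refine Heis.ext ?_ ?_
          · show y.v = 0 + v
            rw [zero_add, hyv]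
          · show y.z = y.z - a + a + c 0 v
            rw [map_zero, AddMonoidHom.zero_apply]
            ring
        have h1 := hχcl (il (⟨-w, 0⟩ : Heis c)) (ir h)
        rw [hb, apply_center c il hω₁ hχz] at h1
        rw [← h1, map_mul]
        linear_combination -(χ (il ⟨v, a⟩ * ir h) * conj (χ (il ⟨v, a⟩ * ir h))) * hchi1 b
      · rw [if_neg hv]
        suffices χ (il ⟨v, a⟩ * ir h) = 0 by rw [this, zero_mul]
        obtain ⟨⟨u, r⟩, hur⟩ := (hbij h).2 v
        have hu : (u : A) ≠ 0 := fun h0 => hv (by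
          rw [← hur]; show (u : A) + r ∈ _; rw [h0, zero_add]; exact r.2)
        obtain ⟨w, hwC, hw⟩ : ∃ w ∈ fixSub (ρ h), c (u : A) w - c w u ≠ 0 := by
          by_contra hc
          push Not at hc
          exact hu (hndC h u u.2 hc)
        refine apply_eq_zero c il hω₁ hχz hχcl (y := il ⟨w, 0⟩) (a := c w v - c v w) ?_ ?_
        · rw [← hur]
          show c w ((u : A) + r) - c ((u : A) + r) w ≠ 0
          have := horth h w hwC r r.2
          simp only [map_add, AddMonoidHom.add_apply, this.1, this.2, add_zero]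
          exact fun h0 => hw (by linear_combination -h0)
        · rw [← mul_assoc, ← map_mul, ← map_inv, mul_assoc, hir, map_inv (φ h), hfix h w hwC, map_inv,
            ← mul_assoc, ← map_inv, ← map_mul, conj_eq, map_mul, mul_assoc]
    have hsum := Blocks.AlperinDade.sum_coset_sq (N := Nn) hχ (θ := ⟨_, hϑ⟩) hres (ir h)
    replace hsum : ∑ x : Heis c, χ (ir h * (eN x : S)) * conj (χ (ir h * (eN x : S)))
        = (Nat.card Nn : ℂ) := by
      rw [← hsum]
      refine (Fintype.sum_equiv eN.toEquiv _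
        (fun n : Nn => χ (ir h * n) * conj (χ (ir h * n))) (fun x => rfl)).trans ?_
      exact Finset.sum_congr (by ext; simp) fun _ _ => rfl
    have hrw : ∀ x : Heis c, χ (ir h * (eN x : S)) = χ (il (φ h x) * ir h) := fun x => by
      rw [← hir]
      rfl
    simp only [hrw] at hsum
    rw [Fintype.sum_equiv (φ h).toEquiv
        (fun x => χ (il (φ h x) * ir h) * conj (χ (il (φ h x) * ir h)))
        (fun x => χ (il x * ir h) * conj (χ (il x * ir h))) (fun x => rfl),
      ← (equivProd c).symm.sum_comp, Fintype.sum_prod_type] at hsum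
    rw [Finset.sum_congr rfl fun v _ => Finset.sum_congr rfl fun a _ =>
      show χ (il ((equivProd c).symm (v, a)) * ir h) *
          conj (χ (il ((equivProd c).symm (v, a)) * ir h)) = _ from hval v a] at hsum
    simp only [Finset.sum_const, Finset.card_univ, ZMod.card, nsmul_eq_mul, hNcard] at hsum
    rw [← Finset.mul_sum, ← Finset.sum_filter, Finset.sum_const, nsmul_eq_mul,
      ← Fintype.card_subtype, ← Nat.card_eq_fintype_card, ← card_fix_mul_range (ρ h)] at hsum
    push_cast at hsum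
    have hne : ((p : ℂ) * (Nat.card (rangeSub (ρ h)) : ℂ)) ≠ 0 :=
      mul_ne_zero (Nat.cast_ne_zero.2 hp.out.ne_zero) (Nat.cast_ne_zero.2 Nat.card_pos.ne')
    refine mul_left_cancel₀ hne ?_
    linear_combination hsum
  -- the value is a multiple of the degree on the fixed points
  have hint : ∀ h, ∃ (d : ℕ) (y : ℂ), d * d = Nat.card (fixSub (ρ h)) ∧ y ∈ R ∧ conj y ∈ R ∧
      χ (ir h) = (d : ℂ) * y := by
    intro h
    let C := fixSub (ρ h)
    let cC : C →+ C →+ ZMod p := AddMonoidHom.mk' (fun x => (c (x : A)).comp C.subtype)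
      fun x y => AddMonoidHom.ext fun z => by simp
    let j : Heis cC →* Heis c :=
      { toFun := fun x => ⟨x.v, x.z⟩
        map_one' := rfl
        map_mul' := fun x y => rfl }
    let f : Heis cC × Subgroup.zpowers h →* S := MonoidHom.noncommCoprod (il.comp j)
      (ir.comp (Subgroup.zpowers h).subtype) fun x t => by
        obtain ⟨i, hi⟩ := Subgroup.mem_zpowers_iff.1 t.2
        show il (j x) * ir t = ir t * il (j x)
        rw [← hi, map_zpow]
        refine (show Commute (il (j x)) (ir h) from ?_).zpow_right i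
        show il (j x) * ir h = ir h * il (j x)
        rw [hir, show φ h (j x) = j x from hfix h _ x.v.2 _]
    obtain ⟨m, -, em⟩ := IsCharacter.exists_multiplicity
      (IsCharacter.comp (IsIrrCharacter.isCharacter hχ) f)
    let ez : Heis cC →* Heis cC × Subgroup.zpowers h := MonoidHom.inl _ _
    let t₀ : Heis cC × Subgroup.zpowers h := (1, ⟨h, Subgroup.mem_zpowers h⟩)
    have ht₀ : t₀ ∈ Subgroup.center (Heis cC × Subgroup.zpowers h) :=
      Subgroup.mem_center_iff.2 fun y => Prod.ext (by simp [t₀]) (Subtype.ext (by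
        obtain ⟨i, hi⟩ := Subgroup.mem_zpowers_iff.1 y.2.2
        show (y.2 : H) * h = h * y.2
        rw [← hi]
        exact ((Commute.refl h).zpow_left i)))
    have hsc : ∀ lam : Cfsg.IrrCharacter (Heis cC × Subgroup.zpowers h),
        ∃ (o τ : ℂ), (∀ x, lam.1 (ez ⟨0, 1⟩ * x) = o * lam.1 x) ∧
          (∀ x, lam.1 (t₀ * x) = τ * lam.1 x) ∧ τ ^ orderOf h = 1 := by
      intro lam
      obtain ⟨o, -, ho⟩ := DegreeBound.apply_central_mul lam.2 (z := ez ⟨0, 1⟩)
        (Subgroup.mem_center_iff.2 fun y => Prod.ext ((central_commute cC 1 y.1).symm) (by simp [ez]))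
      obtain ⟨τ, -, hτ⟩ := DegreeBound.apply_central_mul lam.2 ht₀
      refine ⟨o, τ, ho, hτ, ?_⟩
      have hpow : ∀ k : ℕ, lam.1 (t₀ ^ k) = τ ^ k * lam.1 1 := by
        intro k
        induction k with
        | zero => simp
        | succ k ih => rw [pow_succ', hτ, ih, pow_succ', mul_assoc]
      have := hpow (orderOf h)
      rw [show t₀ ^ orderOf h = 1 from Prod.ext (one_pow _) (Subtype.ext (pow_orderOf_eq_one h))]
        at this
      exact (mul_eq_right₀ (IsIrrCharacter.apply_one_ne_zero lam.2)).1 this.symm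
    choose o τ ho hτ hτp using hsc
    have hom : ∀ lam : Cfsg.IrrCharacter (Heis cC × Subgroup.zpowers h), m lam ≠ 0 → o lam = ω₁ := by
      intro lam hlam
      have e1 : ∀ x, (χ ∘ f) (ez ⟨0, 1⟩ * x)
          = ∑ μ : Cfsg.IrrCharacter (Heis cC × Subgroup.zpowers h), ((m μ : ℂ) * o μ) * μ.1 x := fun x => by
        rw [em]
        exact Finset.sum_congr rfl fun μ _ => by rw [ho, mul_assoc]
      have e2 : ∀ x, (χ ∘ f) (ez ⟨0, 1⟩ * x)
          = ∑ μ : Cfsg.IrrCharacter (Heis cC × Subgroup.zpowers h), (ω₁ * (m μ : ℂ)) * μ.1 x := fun x => by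
        have hx := hχz (f x)
        rw [Function.comp_apply, map_mul, show f (ez ⟨0, 1⟩) = il ⟨0, 1⟩ by
          simp [f, ez, j]; rfl, hx, show χ (f x) = (χ ∘ f) x from rfl, em, Finset.mul_sum]
        exact Finset.sum_congr rfl fun μ _ => by rw [mul_assoc]
      have h1 := classInner_expand (f := fun x => (χ ∘ f) (ez ⟨0, 1⟩ * x)) e1 lam
      rw [classInner_expand (f := fun x => (χ ∘ f) (ez ⟨0, 1⟩ * x)) e2 lam, mul_comm] at h1
      exact (mul_left_cancel₀ (Nat.cast_ne_zero.2 hlam) h1).symm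
    choose d hd using fun lam : Cfsg.IrrCharacter (Heis cC × Subgroup.zpowers h) =>
      IsIrrCharacter.apply_one_dvd_card lam.2
    have hd2 : ∀ lam, m lam ≠ 0 → d lam * d lam = Nat.card C := by
      intro lam hlam
      have hz : ∀ x, lam.1 (ez ⟨0, 1⟩ * x) = ω₁ * lam.1 x := fun x => by rw [ho, hom lam hlam]
      have hcl : ∀ y x, lam.1 (y * x * y⁻¹) = lam.1 x := fun y x =>
        IsIrrCharacter.isClassFunction lam.2 x y
      have hval : ∀ (x : Heis cC × Subgroup.zpowers h), lam.1 x * conj (lam.1 x)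
          = if x.1.v = 0 then ((d lam * d lam : ℕ) : ℂ) else 0 := by
        intro x
        by_cases hx : x.1.v = 0
        · rw [if_pos hx]
          obtain ⟨σ, hσ, hσ'⟩ := DegreeBound.apply_central_mul lam.2 (z := x)
            (Subgroup.mem_center_iff.2 fun y => Prod.ext (by
              have : x.1 = ⟨0, x.1.z⟩ := Heis.ext hx rfl
              show y.1 * x.1 = x.1 * y.1
              rw [this, central_commute]) (Subtype.ext (by
              obtain ⟨i, hi⟩ := Subgroup.mem_zpowers_iff.1 y.2.2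
              obtain ⟨i', hi'⟩ := Subgroup.mem_zpowers_iff.1 x.2.2
              show (y.2 : H) * x.2 = x.2 * y.2
              rw [← hi, ← hi']
              exact ((Commute.refl h).zpow_zpow i i'))))
          have h1 := hσ' 1
          rw [mul_one, (hd lam).1] at h1
          rw [h1, map_mul, Complex.conj_natCast, Nat.cast_mul]
          have hσσ : σ * conj σ = 1 := by
            rw [Complex.mul_conj, Complex.normSq_eq_norm_sq, hσ]
            norm_num
          linear_combination ((d lam : ℂ) * d lam) * hσσ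
        · rw [if_neg hx]
          obtain ⟨w, hwC, hw⟩ : ∃ w ∈ C, c (x.1.v : A) w - c w x.1.v ≠ 0 := by
            by_contra hc
            push Not at hc
            exact hx (Subtype.ext (hndC h _ x.1.v.2 hc))
          have : lam.1 x = 0 := apply_eq_zero cC ez hω₁ hz hcl
            (y := ez ⟨⟨w, hwC⟩, 0⟩) (a := cC ⟨w, hwC⟩ x.1.v - cC x.1.v ⟨w, hwC⟩)
            (fun h0 => hw (by
              have h0' : c w (x.1.v : A) - c (x.1.v : A) w = 0 := h0
              linear_combination -h0'))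
            (Prod.ext (by simpa [ez] using conj_eq cC ⟨w, hwC⟩ x.1) (by simp [ez]))
          rw [this, zero_mul]
      have hsum := classInner_irr_self lam.2
      rw [Cfsg.classInner, inv_mul_eq_iff_eq_mul₀ card_ne_zero, mul_one,
        Finset.sum_congr rfl fun x _ => hval x, ← Finset.sum_filter, Finset.sum_const, nsmul_eq_mul,
        ← Nat.cast_mul, Nat.cast_inj, ← Fintype.card_subtype, ← Nat.card_eq_fintype_card] at hsum
      have e : Nat.card {x : Heis cC × Subgroup.zpowers h // x.1.v = 0}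
          = p * Nat.card (Subgroup.zpowers h) := by
        rw [← Nat.card_congr (Equiv.ofBijective
          (fun at' : ZMod p × Subgroup.zpowers h =>
            (⟨(⟨0, at'.1⟩, at'.2), rfl⟩ : {x : Heis cC × Subgroup.zpowers h // x.1.v = 0}))
          ⟨fun a b e => by
            have h' : ((⟨0, a.1⟩ : Heis cC), a.2) = ((⟨0, b.1⟩ : Heis cC), b.2) :=
              congrArg Subtype.val e
            simp only [Prod.mk.injEq, Heis.mk.injEq, true_and] at h'
            exact Prod.ext h'.1 h'.2,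
          fun x => ⟨(x.1.1.z, x.1.2), Subtype.ext (Prod.ext (Heis.ext x.2.symm rfl) rfl)⟩⟩),
          Nat.card_prod, Nat.card_zmod]
      rw [e, Nat.card_prod, Heis.card_eq] at hsum
      refine Nat.eq_of_mul_eq_mul_left (Nat.mul_pos hp.out.pos
        (Nat.card_pos (α := Subgroup.zpowers h))) ?_
      rw [hsum]
      ring
    have hexm : ∃ lam, m lam ≠ 0 := by
      by_contra hc
      push Not at hc
      refine IsIrrCharacter.apply_one_ne_zero hχ ?_
      rw [show χ 1 = (χ ∘ f) 1 by simp, em]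
      simp [hc]
    obtain ⟨lam₀, hlam₀⟩ := hexm
    have hdd : ∀ lam, m lam ≠ 0 → d lam = d lam₀ := fun lam hlam => by
      have := (hd2 lam hlam).trans (hd2 lam₀ hlam₀).symm
      exact Nat.mul_self_inj.1 this
    have hτR : ∀ lam, τ lam ∈ R ∧ conj (τ lam) ∈ R := fun lam => by
      have : NeZero N := ⟨hN.ne'⟩
      have hNτ : τ lam ^ N = 1 := by
        obtain ⟨k, hk⟩ := (orderOf_dvd_natCard h).trans hHN
        rw [hk, pow_mul, hτp, one_pow]
      have h1 : ∀ z : ℂ, z ^ N = 1 → z ∈ R := fun z hz => by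
        obtain ⟨i, -, hi⟩ := hξ.eq_pow_of_pow_eq_one hz
        rw [← hi]
        exact R.pow_mem (Algebra.self_mem_adjoin_singleton ℤ ξ) i
      exact ⟨h1 _ hNτ, h1 _ (by rw [← map_pow, hNτ, map_one])⟩
    refine ⟨d lam₀, ∑ lam : Cfsg.IrrCharacter (Heis cC × Subgroup.zpowers h), (m lam : ℂ) * τ lam,
      hd2 lam₀ hlam₀, R.sum_mem fun lam _ => R.mul_mem (natCast_mem R _) (hτR lam).1, ?_, ?_⟩
    · rw [map_sum]
      refine R.sum_mem fun lam _ => ?_
      rw [map_mul, Complex.conj_natCast]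
      exact R.mul_mem (natCast_mem R _) (hτR lam).2
    · rw [show χ (ir h) = (χ ∘ f) t₀ by simp [f, t₀], em, Finset.mul_sum]
      refine Finset.sum_congr rfl fun lam _ => ?_
      by_cases hlam : m lam = 0
      · simp [hlam]
      · have := hτ lam 1
        rw [mul_one] at this
        rw [this, (hd lam).1, hdd lam hlam]
        ring
  choose dC y hdC hyR hyR' hy using hint
  have hdvd : ∀ h, dC h ∣ dA := fun h => by
    rw [← Nat.pow_dvd_pow_iff two_ne_zero, pow_two, pow_two, hdC, hdA2]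
    exact AddSubgroup.card_addSubgroup_dvd_card _
  have hyn : ∀ h, y h * conj (y h) = 1 := fun h => by
    have h1 := habs h
    rw [hy, map_mul, Complex.conj_natCast, ← hdC, Nat.cast_mul] at h1
    have hne : ((dC h : ℂ) * dC h) ≠ 0 := by
      have : dC h ≠ 0 := fun h0 => by
        have := hdC h
        rw [h0, mul_zero] at this
        exact Nat.card_pos.ne this
      exact mul_ne_zero (Nat.cast_ne_zero.2 this) (Nat.cast_ne_zero.2 this)
    refine mul_left_cancel₀ hne ?_
    linear_combination h1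
  let g : H → ℂ := fun h => ((dA / dC h : ℕ) : ℂ) * conj (y h)
  have hsq : ∀ h, dA / dC h * (dA / dC h) = Nat.card (rangeSub (ρ h)) := fun h => by
    refine Nat.eq_of_mul_eq_mul_left (Nat.card_pos (α := fixSub (ρ h))) ?_
    rw [card_fix_mul_range, ← hdC, ← hdA2]
    calc dC h * dC h * (dA / dC h * (dA / dC h)) = dC h * (dA / dC h) * (dC h * (dA / dC h)) := by ring
      _ = dA * dA := by rw [Nat.mul_div_cancel' (hdvd h)]
  refine ⟨g, ?_, Or.inl ?_, fun h hh => ?_, fun h => ⟨_, ?_, (hsq h).le⟩⟩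
  · obtain ⟨q, s, hq, hqπ⟩ := exists_fix_inv ρ (R := R) hexp
    refine InSpan.of_pow_mul hp.out hH (irr_mem_adjoin (p := p) hξ hN hHN)
      (fun h => R.mul_mem (natCast_mem R _) (hyR' h)) s ?_
    have hcj : InSpan R (fun h => conj (χ (ir h))) := InSpan.of_isCharacter
      (IsCharacter.conj' (IsCharacter.comp (IsIrrCharacter.isCharacter hχ) ir))
    have h2 := InSpan.smul (a := (dA : ℂ)) (natCast_mem R dA) (hcj.mul hq)
    convert h2 using 2 with h
    have h3 : (dA : ℂ) = (dC h : ℂ) * ((dA / dC h : ℕ) : ℂ) := by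
      rw [← Nat.cast_mul, Nat.mul_div_cancel' (hdvd h)]
    rw [← hqπ h, ← hdC, hy, map_mul, Complex.conj_natCast, h3]
    push_cast
    ring
  · have h1 : dC 1 = dA := by
      refine Nat.mul_self_inj.1 ((hdC 1).trans (hdA2.trans ?_).symm)
      rw [Nat.card_eq_fintype_card]
      refine (Fintype.card_congr (Equiv.subtypeUnivEquiv fun x => ?_)).symm.trans
        Nat.card_eq_fintype_card.symm
      exact mem_fixSub.2 (by rw [map_one]; rfl)
    have h2 := hy 1
    rw [map_one, show χ 1 = (θ : Heis c → ℂ) 1 by rw [← hχθ, map_one], hdA, h1] at h2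
    have hd0 : (dA : ℂ) ≠ 0 := hdA ▸ IsIrrCharacter.apply_one_ne_zero θ.2
    have h3 : y 1 = 1 := (mul_eq_left₀ hd0).1 h2.symm
    show ((dA / dC 1 : ℕ) : ℂ) * conj (y 1) = 1
    rw [h1, Nat.div_self (Nat.pos_of_ne_zero fun h => hd0 (by rw [h, Nat.cast_zero])), h3,
      map_one, Nat.cast_one, one_mul]
  · refine (Small.natCast_of_dvd hζ ?_).mul_right (adjoin_le_integralClosure (hξ.isIntegral hN) (hyR' h))
    obtain ⟨j, hj⟩ := card_eq_pow (A := rangeSub (ρ h)) fun a => Subtype.ext (hexp a)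
    rcases j with _ | j
    · refine absurd (AddMonoidHom.ext fun z => sub_eq_zero.1 ?_) hh
      have hb := AddSubgroup.eq_bot_of_card_eq _ (hj.trans (pow_zero p))
      have hm : ρ h z - z ∈ rangeSub (ρ h) := mem_rangeSub.2 ⟨z, rfl⟩
      rw [hb] at hm
      exact hm
    · exact (hp.out.dvd_mul.1 ((hsq h).trans hj ▸ dvd_pow_self p (Nat.succ_ne_zero j))).elim id id
  · rw [show g h = _ from rfl, map_mul, Complex.conj_conj, Complex.conj_natCast, Nat.cast_mul]
    linear_combination ((dA / dC h : ℕ) : ℂ) * ((dA / dC h : ℕ) : ℂ) * hyn h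

end CfsgLib.DegreeTools.KGV
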